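import Groth.Agent.GmBidualLib.Prim
import Groth.Agent.HopfFFLib.Injective
import Mathlib.RingTheory.Ideal.Maps

/-!
# Unipotent quotient groups of groups of finite type are of finite type in characteristic zero
-/

set_option autoImplicit false
set_option linter.style.haveILetI false
set_option maxHeartbeats 1000000

noncomputable section

universe u v w

open TensorProduct HopfRep
open Groth.Agent.UnipHopf (K)

namespace GmBidualLib

variable {k : Type u} [Field k] [CharZero k] {A : Type u} [CommRing A] [HopfAlgebra k A] [Algebra.FiniteType k A]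
  {B : Type u} [CommRing B] [HopfAlgebra k B]

theorem finiteType_of_injective (hK : ∀ a : B, ∃ n, a ∈ K k B n) (ψ : B →ₐc[k] A) (hψ : Function.Injective ψ) :
    Algebra.FiniteType k B := by
  classical
  haveI : IsNoetherianRing A := Algebra.FiniteType.isNoetherianRing k A
  letI : Algebra B A := (ψ : B →+* A).toAlgebra
  haveI : Module.FaithfullyFlat B A :=
    RingHom.faithfullyFlat_algebraMap_iff.1 (Groth.Agent.HopfFF.faithfullyFlat_of_injective ψ hψ)
  let m : Ideal B := RingHom.ker (Bialgebra.counitAlgHom k B)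
  have hfg : (Ideal.span (algebraMap B A '' (m : Set B))).FG := IsNoetherian.noetherian _
  obtain ⟨t, ht, htspan⟩ := (Submodule.fg_span_iff_fg_span_finset_subset _).1 hfg
  obtain ⟨s, hsm, hst⟩ : ∃ s : Finset B, (s : Set B) ⊆ m ∧ algebraMap B A '' (s : Set B) = (t : Set A) := by
    obtain ⟨s, hsm, hst⟩ := Finset.subset_set_image_iff.1 ht
    exact ⟨s, hsm, by rw [← hst, Finset.coe_image]⟩
  have hm : m = Ideal.span (s : Set B) := by
    refine le_antisymm ?_ (Ideal.span_le.2 hsm)
    rw [← Ideal.comap_map_eq_self_of_faithfullyFlat (B := A) (Ideal.span (s : Set B)), ← Ideal.map_le_iff_le_comap,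
      Ideal.map_span, hst]
    exact le_of_eq htspan
  refine ⟨⟨s.image (wt hK 1), ?_⟩⟩
  rw [eq_top_iff, ← adjoin_wt_one hK, Algebra.adjoin_le_iff]
  rintro _ ⟨a, rfl⟩
  have ha : a - algebraMap k B (Coalgebra.counit (R := k) a) ∈ Ideal.span (s : Set B) := by
    rw [← hm]
    exact RingHom.mem_ker.2 (by simp)
  obtain ⟨c, -, hc⟩ := Submodule.mem_span_finset.1 ha
  have h1 : ∀ r : k, wt hK 1 (algebraMap k B r) = 0 := fun r => by
    rw [wt_apply, AlgHom.commutes, Polynomial.algebraMap_apply, Polynomial.coeff_C, if_neg one_ne_zero]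
  have h2 : ∀ b ∈ s, wt hK 1 (c b * b) = Coalgebra.counit (R := k) (c b) • wt hK 1 b := fun b hb => by
    rw [wt_apply, map_mul, Polynomial.coeff_mul,
      show Finset.HasAntidiagonal.antidiagonal 1 = ({(0, 1), (1, 0)} : Finset (ℕ × ℕ)) from by decide,
      Finset.sum_pair (by simp), ← wt_apply, ← wt_apply, ← wt_apply, ← wt_apply, wt_zero, wt_zero,
      show Coalgebra.counit (R := k) b = 0 from hsm hb, map_zero, mul_zero, add_zero, Algebra.smul_def]
  have h3 : wt hK 1 a = ∑ b ∈ s, Coalgebra.counit (R := k) (c b) • wt hK 1 b := by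
    have h := congrArg (wt hK 1) hc
    simp only [smul_eq_mul, map_sum, map_sub, h1, sub_zero] at h
    rw [← h]
    exact Finset.sum_congr rfl h2
  rw [SetLike.mem_coe, h3]
  exact sum_mem fun b hb => Subalgebra.smul_mem _ (Algebra.subset_adjoin (Finset.mem_image_of_mem _ hb)) _

end GmBidualLib
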