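import Groth.Agent.GmBidualLib.CharP
import Groth.Agent.GmBidualLib.PrimFin
import Groth.Agent.MultUnipLib.Descent
import Groth.Agent.S3265
import Mathlib.RingTheory.Smooth.StandardSmooth

/-!
# Double duality in characteristic zero
-/

set_option autoImplicit false
set_option backward.isDefEq.respectTransparency false
set_option linter.style.haveILetI false
set_option maxHeartbeats 1000000
universe u

open CategoryTheory CategoryTheory.Limits MonoidalCategory CartesianMonoidalCategory AlgebraicGeometry Opposite CoactBr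
open GmVanishLib (shf shfMap shfMap_app fns fns_injective fns_comp_pt exists_ptsIso isIso_pt_of_bijective)
open scoped MonObj TensorProduct

attribute [local instance] CoactBr.braidedAlgSpecOf
attribute [-instance] CategoryTheory.Hom.commGroup

noncomputable section

namespace GmBidualLib

variable {k : Type u} [Field k]

local notation "Jf" => QuotSh.J Scheme.fppfPrecoverage (Spec (CommRingCat.of k))

theorem isCocomm_of_injective {A B : Type u} [CommRing A] [HopfAlgebra k A] [Coalgebra.IsCocomm k A] [CommRing B]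
    [HopfAlgebra k B] (ψ : B →ₐc[k] A) (hψ : Function.Injective ψ) : Coalgebra.IsCocomm k B := by
  have hinj : Function.Injective (TensorProduct.map (ψ : B →ₗ[k] A) (ψ : B →ₗ[k] A)) :=
    TensorProduct.map_injective_of_flat_flat (ψ : B →ₗ[k] A) (ψ : B →ₗ[k] A) hψ hψ
  refine ⟨LinearMap.ext fun b => hinj ?_⟩
  show TensorProduct.map (ψ : B →ₗ[k] A) (ψ : B →ₗ[k] A) (TensorProduct.comm k B B (CoalgebraStruct.comul (R := k) b)) =
    TensorProduct.map (ψ : B →ₗ[k] A) (ψ : B →ₗ[k] A) (CoalgebraStruct.comul (R := k) b)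
  have h : TensorProduct.map (ψ : B →ₗ[k] A) (ψ : B →ₗ[k] A) (TensorProduct.comm k B B (CoalgebraStruct.comul (R := k) b)) =
      TensorProduct.comm k A A (TensorProduct.map (ψ : B →ₗ[k] A) (ψ : B →ₗ[k] A) (CoalgebraStruct.comul (R := k) b)) := by
    generalize CoalgebraStruct.comul (R := k) b = t
    induction t using TensorProduct.induction_on with
    | zero => simp
    | add x y hx hy => simp only [map_add, hx, hy]
    | tmul x y => simp
  rw [h, CoalgHomClass.map_comp_comul_apply ψ]
  exact LinearMap.congr_fun (Coalgebra.IsCocomm.comm_comp_comul (R := k) (A := A)) (ψ b)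

/-- A short exact sequence with a section has exact dual. -/
theorem epi_dualMap_of_section {T : ShortComplex (BigSite.Ab Scheme.fppfPrecoverage (Spec (CommRingCat.of k)))}
    (hT : T.ShortExact) (s : T.X₃ ⟶ T.X₂) (hs : s ≫ T.g = 𝟙 T.X₃) :
    Epi (GaBidualLib.dualMap Jf (CGrpSh2.Gm Scheme.fppfPrecoverage (Spec (CommRingCat.of k))) T.f) := by
  let sp' := ShortComplex.Splitting.ofExactOfSection T hT.exact s hs hT.mono_f
  exact epi_dualMap_of_retraction sp'.r sp'.f_r

/-- A retraction of a map of Hopf algebras gives a section. -/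
theorem section_of_retraction {A B : Type u} [CommRing A] [HopfAlgebra k A] [Coalgebra.IsCocomm k A] [CommRing B]
    [HopfAlgebra k B] [Coalgebra.IsCocomm k B] (φ : B →ₐc[k] A) (r : A →ₐc[k] B) (hr : ∀ b, r (φ b) = b) :
    shfMap (k := k) r ≫ shfMap (k := k) φ = 𝟙 (shf (k := k) B) := by
  refine Sheaf.hom_ext (NatTrans.ext (funext fun Z => AddCommGrpCat.ext fun x => ?_))
  refine ULift.ext _ _ (congrArg Additive.ofMul ?_)
  show (x.down.toMul ≫ pt (r : A →ₐ[k] B)) ≫ pt (φ : B →ₐ[k] A) = x.down.toMul
  rw [Category.assoc, ← pt_comp, show (r : A →ₐ[k] B).comp (φ : B →ₐ[k] A) = AlgHom.id k B from AlgHom.ext hr,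
    pt_id, Category.comp_id]

section unipotent

variable [CharZero k]

theorem bid_of_bijective_coord {H : Type u} [CommRing H] [HopfAlgebra k H] [Coalgebra.IsCocomm k H]
    [IsCommMonObj (sp k H)] (v : sp k H ≅ Red.Ga (Spec (CommRingCat.of k))) (hv : IsMonHom v.hom) :
    Bid (shf (k := k) H) := by
  haveI := hv
  obtain ⟨e⟩ := exists_ptsIso v.hom inferInstance
  exact bid_Ga_charZero.of_iso e

/-- Groups with primitive coordinates. -/
theorem bid_of_coords {H : Type u} [CommRing H] [HopfAlgebra k H] [Coalgebra.IsCocomm k H] [Algebra.FiniteType k H]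
    [IsCommMonObj (sp k H)] (v : sp k H ≅ Red.Ga (Spec (CommRingCat.of k))) (hv : IsMonHom v.hom) :
    ∀ (n : ℕ) (B : Type u) [CommRing B] [HopfAlgebra k B] [Coalgebra.IsCocomm k B] [Algebra.FiniteType k B]
      (x : Fin n → B), AlgebraicIndependent k x → Algebra.adjoin k (Set.range x) = ⊤ →
      (∀ i, CoalgebraStruct.comul (R := k) (x i) = x i ⊗ₜ[k] (1 : B) + (1 : B) ⊗ₜ[k] x i) →
      Bid (shf (k := k) B) := by
  obtain ⟨xh, hxh, hbh⟩ := exists_coord v hv
  intro n
  induction n with
  | zero =>
    intro B _ _ _ _ x _ hgen _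
    have hsurj : ∀ b : B, ∃ r : k, algebraMap k B r = b := fun b => by
      have hb : b ∈ Algebra.adjoin k (Set.range x) := by rw [hgen]; trivial
      rw [Set.range_eq_empty x, Algebra.adjoin_empty] at hb
      exact Algebra.mem_bot.1 hb
    refine Bid.of_isZero ((IsZero.iff_id_eq_zero _).2
      (Sheaf.hom_ext (NatTrans.ext (funext fun Z => AddCommGrpCat.ext fun y => ?_))))
    refine ULift.ext _ _ (congrArg Additive.ofMul (fns_injective (RingHom.ext fun b => ?_)))
    obtain ⟨r, rfl⟩ := hsurj b
    show fns y.down.toMul (algebraMap k B r) = fns (1 : Z.unop ⟶ sp k B) (algebraMap k B r)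
    rw [fns_algebraMap, fns_algebraMap]
  | succ n ih =>
    intro B _ _ _ _ x hx hgen hprim
    let Eh := AlgEquiv.ofBijective (Polynomial.aeval (R := k) xh) hbh
    have hEh : Eh.symm xh = Polynomial.X := by
      rw [AlgEquiv.symm_apply_eq]
      exact (Polynomial.aeval_X xh).symm
    have hBext : ∀ {C : Type u} [CommRing C] [Algebra k C] (f g : B →ₐ[k] C), (∀ i, f (x i) = g (x i)) → f = g :=
      fun f g h => AlgHom.ext_of_adjoin_eq_top hgen (by rintro _ ⟨i, rfl⟩; exact h i)
    have hHext : ∀ {C : Type u} [CommRing C] [Algebra k C] (f g : H →ₐ[k] C), f xh = g xh → f = g := fun f g h =>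
      AlgHom.ext fun z => by
        obtain ⟨p, rfl⟩ := hbh.2 z
        rw [← Polynomial.aeval_algHom_apply, ← Polynomial.aeval_algHom_apply, h]
    have hε : ∀ i, Coalgebra.counit (R := k) (x i) = 0 := fun i => counit_coord (hprim i)
    -- the first coordinate
    let φ₀ : H →ₐ[k] B := (Polynomial.aeval (x 0)).comp Eh.symm.toAlgHom
    have hφ₀ : φ₀ xh = x 0 := (congrArg (Polynomial.aeval (x 0)) hEh).trans (Polynomial.aeval_X _)
    let φ : H →ₐc[k] B := BialgHom.ofAlgHom φ₀
      (hHext _ _ (by
        show Coalgebra.counit (R := k) (φ₀ xh) = Coalgebra.counit (R := k) xh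
        rw [hφ₀, hε, counit_coord hxh]))
      (hHext _ _ (by
        show Algebra.TensorProduct.map φ₀ φ₀ (CoalgebraStruct.comul (R := k) xh) = CoalgebraStruct.comul (R := k) (φ₀ xh)
        rw [hφ₀, hxh, hprim 0, map_add, Algebra.TensorProduct.map_tmul, Algebra.TensorProduct.map_tmul, hφ₀, map_one]))
    -- the projection
    let Ex := AlgEquiv.ofBijective (MvPolynomial.aeval (R := k) x)
      ⟨hx, fun b => by
        have hb : b ∈ Algebra.adjoin k (Set.range x) := by rw [hgen]; trivial
        rw [Algebra.adjoin_range_eq_range_aeval] at hb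
        exact hb⟩
    have hEx : ∀ i, Ex.symm (x i) = MvPolynomial.X i := fun i => by
      rw [AlgEquiv.symm_apply_eq]
      exact (MvPolynomial.aeval_X x i).symm
    let π₀ : B →ₐ[k] H := (MvPolynomial.aeval (fun i : Fin (n + 1) => if i = 0 then xh else 0)).comp Ex.symm.toAlgHom
    have hπ₀ : ∀ i, π₀ (x i) = if i = 0 then xh else 0 := fun i =>
      (congrArg (MvPolynomial.aeval _) (hEx i)).trans (MvPolynomial.aeval_X _ i)
    let π : B →ₐc[k] H := BialgHom.ofAlgHom π₀
      (hBext _ _ fun i => by
        show Coalgebra.counit (R := k) (π₀ (x i)) = Coalgebra.counit (R := k) (x i)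
        rw [hπ₀, hε]
        split_ifs
        · exact counit_coord hxh
        · exact map_zero _)
      (hBext _ _ fun i => by
        show Algebra.TensorProduct.map π₀ π₀ (CoalgebraStruct.comul (R := k) (x i)) = CoalgebraStruct.comul (R := k) (π₀ (x i))
        rw [hprim, map_add, Algebra.TensorProduct.map_tmul, Algebra.TensorProduct.map_tmul, hπ₀, map_one]
        split_ifs
        · rw [hxh]
        · rw [map_zero, TensorProduct.zero_tmul, TensorProduct.tmul_zero, add_zero])
    have hπφ : ∀ z, π (φ z) = z := by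
      have h : π₀.comp φ₀ = AlgHom.id k H := hHext _ _ (by rw [AlgHom.comp_apply, hφ₀, hπ₀, if_pos rfl]; rfl)
      exact fun z => AlgHom.congr_fun h z
    -- the kernel
    haveI : (Ideal.map (φ : H →+* B) (RingHom.ker (Bialgebra.counitAlgHom k H))).IsHopfIdeal k :=
      Groth.Agent.S4130.isHopfIdeal_map φ
    generalize hJ : Ideal.map (φ : H →+* B) (RingHom.ker (Bialgebra.counitAlgHom k H)) = J at *
    let q := Bialgebra.Quotient.mkBialgHom (R := k) J
    haveI : Coalgebra.IsCocomm k (B ⧸ J) := Groth.Agent.MultClosed.isCocomm_of_surjective q Ideal.Quotient.mk_surjective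
    haveI : Algebra.FiniteType k (B ⧸ J) :=
      Algebra.FiniteType.of_surjective (Ideal.Quotient.mkₐ k J) Ideal.Quotient.mk_surjective
    have hx0 : x 0 ∈ J := by
      rw [← hJ, ← hφ₀]
      exact Ideal.mem_map_of_mem (φ : H →+* B) (RingHom.mem_ker.2 (counit_coord hxh))
    have hQ : Bid (shf (k := k) (B ⧸ J)) := by
      refine ih (B ⧸ J) (fun i => q (x i.succ)) ?_ ?_ fun i => ?_
      · let χ₀ : B →ₐ[k] MvPolynomial (Fin n) k :=
          (MvPolynomial.aeval (Fin.cons 0 MvPolynomial.X : Fin (n + 1) → MvPolynomial (Fin n) k)).comp Ex.symm.toAlgHom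
        have hχ : ∀ i, χ₀ (x i) = (Fin.cons 0 MvPolynomial.X : Fin (n + 1) → MvPolynomial (Fin n) k) i := fun i =>
          (congrArg (MvPolynomial.aeval _) (hEx i)).trans (MvPolynomial.aeval_X _ i)
        have hJχ : ∀ b ∈ J, χ₀ b = 0 := by
          intro b hb
          rw [← hJ] at hb
          refine (Ideal.map_le_iff_le_comap.2 (fun z hz => ?_) hb : b ∈ RingHom.ker χ₀)
          have h : χ₀.comp φ₀ = (Algebra.ofId k _).comp (Bialgebra.counitAlgHom k H) := hHext _ _ (by
            rw [AlgHom.comp_apply, hφ₀, hχ, Fin.cons_zero, AlgHom.comp_apply, Bialgebra.counitAlgHom_apply,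
              counit_coord hxh, map_zero])
          show χ₀ (φ₀ z) = 0
          rw [← AlgHom.comp_apply, h, AlgHom.comp_apply, show Bialgebra.counitAlgHom k H z = 0 from hz, map_zero]
        let χ : (B ⧸ J) →ₐ[k] MvPolynomial (Fin n) k := Ideal.Quotient.liftₐ J χ₀ hJχ
        rw [algebraicIndependent_iff]
        intro g hg
        have h : χ.comp (MvPolynomial.aeval fun i => q (x i.succ)) = AlgHom.id k _ := MvPolynomial.algHom_ext fun i => by
          rw [AlgHom.comp_apply, MvPolynomial.aeval_X]
          exact (hχ i.succ).trans (Fin.cons_succ _ _ _)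
        rw [← AlgHom.id_apply (R := k) g, ← h, AlgHom.comp_apply, hg, map_zero]
      · rw [eq_top_iff]
        intro z hz
        clear hz
        obtain ⟨b, rfl⟩ := Ideal.Quotient.mk_surjective z
        have hb : b ∈ Algebra.adjoin k (Set.range x) := by rw [hgen]; trivial
        induction hb using Algebra.adjoin_induction with
        | mem y hy =>
          obtain ⟨i, rfl⟩ := hy
          rcases Fin.eq_zero_or_eq_succ i with rfl | ⟨j, rfl⟩
          · rw [Ideal.Quotient.eq_zero_iff_mem.2 hx0]; exact zero_mem _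
          · exact Algebra.subset_adjoin ⟨j, rfl⟩
        | algebraMap r => exact Subalgebra.algebraMap_mem _ r
        | add a b _ _ ha hb => rw [map_add]; exact add_mem ha hb
        | mul a b _ _ ha hb => rw [map_mul]; exact mul_mem ha hb
      · rw [← CoalgHomClass.map_comp_comul_apply q, hprim, map_add, TensorProduct.map_tmul, TensorProduct.map_tmul]
        simp
    have hφi : Function.Injective φ := Function.LeftInverse.injective (g := π) hπφ
    obtain ⟨w, hses⟩ := GmVanishLib.shortExact_of_injective φ hφi q Ideal.Quotient.mk_surjective (Ideal.mk_ker.trans hJ.symm)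
    exact Bid.of_shortExact hses (epi_dualMap_of_section hses (shfMap π) (section_of_retraction φ π hπφ))
      hQ (bid_of_bijective_coord v hv)

/-- Every commutative affine group of finite type in characteristic zero. -/
theorem bid_affine_charZero (A : Type u) [CommRing A] [HopfAlgebra k A] [Algebra.FiniteType k A]
    [Coalgebra.IsCocomm k A] : Bid (shf (k := k) A) := by
  obtain ⟨J, hJH, hmult, -, B, _, _, ψ, hinj, hJ, hU⟩ := Groth.Agent.S4130.result k A
  haveI : Coalgebra.IsCocomm k B := isCocomm_of_injective ψ hinj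
  have hK := Groth.Agent.UnipHopf.exhaustive_of_isUnipotent hU
  haveI : Algebra.FiniteType k B := finiteType_of_injective hK ψ hinj
  obtain ⟨n, x, hx, hgen, hprim⟩ := exists_primitive_coords hK
  -- the coordinate ring of the additive group
  obtain ⟨e, -⟩ := GmExtLib.exists_lineIso (CommRingCat.of k)
  haveI : IsAffine (Red.Ga (Spec (CommRingCat.of k))).left := by
    haveI : IsAffine (GmExtLib.ao (𝟙 (Spec (CommRingCat.of k))) (Polynomial k)).left :=
      inferInstanceAs (IsAffine (Spec (CommRingCat.of (Polynomial k))))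
    haveI : IsIso e.inv.left := ((Over.forget _).mapIso e.symm).isIso_hom
    exact .of_isIso e.inv.left
  obtain ⟨H, _, _, v, hv, -⟩ := DeligneKillLib.exists_sp (Red.Ga (Spec (CommRingCat.of k)))
  haveI := hv
  haveI : IsCommMonObj (sp k H) := ExtGm.isCommMonObj_of_mono v.hom
  haveI : Coalgebra.IsCocomm k H := ExtGm.isCocomm_of_comm
  haveI : Algebra.FiniteType k H := by
    obtain ⟨y, -, hy⟩ := exists_coord v hv
    exact Algebra.FiniteType.of_surjective (Polynomial.aeval (R := k) y) hy.2
  have hB : Bid (shf (k := k) B) := bid_of_coords v hv n B x hx hgen hprim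
  haveI : Algebra.FormallySmooth k B := by
    refine Algebra.FormallySmooth.of_equiv (AlgEquiv.ofBijective (MvPolynomial.aeval (R := k) x) ⟨hx, fun b => ?_⟩)
    have hb : b ∈ Algebra.adjoin k (Set.range x) := by rw [hgen]; trivial
    rw [Algebra.adjoin_range_eq_range_aeval] at hb
    exact hb
  obtain ⟨r, hr, -⟩ := Groth.Agent.MultUnip.existsUnique_retraction hU ψ hinj J hJ hmult
    (Groth.Agent.S3265.result k B hU)
  let q := Bialgebra.Quotient.mkBialgHom (R := k) J
  haveI : Coalgebra.IsCocomm k (A ⧸ J) := Groth.Agent.MultClosed.isCocomm_of_surjective q Ideal.Quotient.mk_surjective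
  haveI : Algebra.FiniteType k (A ⧸ J) :=
    Algebra.FiniteType.of_surjective (Ideal.Quotient.mkₐ k J) Ideal.Quotient.mk_surjective
  have hM : Bid (shf (k := k) (A ⧸ J)) := by
    obtain ⟨R', _, _, hff, N, _, ⟨e'⟩⟩ := hmult
    haveI := hff
    obtain ⟨E⟩ := Groth.Agent.DiagHopf.exists_split_of_bialgEquiv e'
    exact bid_of_mult (Groth.Agent.DiagHopf.isMultType_of_split E)
  obtain ⟨w, hses⟩ := GmVanishLib.shortExact_of_injective ψ hinj q Ideal.Quotient.mk_surjective (Ideal.mk_ker.trans hJ)
  exact Bid.of_shortExact hses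
    (epi_dualMap_of_section hses (shfMap r) (section_of_retraction ψ r fun b => DFunLike.congr_fun hr b)) hM hB

end unipotent

end GmBidualLib
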