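import Groth.Agent.GmExtLib.Inject
import Groth.Agent.GmExtLib.ExtShZero
import Groth.Agent.GaBidualLib.DualExact

/-!
# Sheaves equal to their double duals: closure properties
-/

set_option autoImplicit false
set_option backward.isDefEq.respectTransparency false
set_option linter.style.haveILetI false
set_option maxHeartbeats 1000000
universe u

open CategoryTheory CategoryTheory.Limits AlgebraicGeometry Opposite

noncomputable section

namespace GmBidualLib

variable {S : Scheme.{u}}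

local notation "Jf" => QuotSh.J Scheme.fppfPrecoverage S

/-- The sheaf is its double dual with values in the multiplicative group. -/
def Bid (F : BigSite.Ab Scheme.fppfPrecoverage S) : Prop :=
  IsIso (HomSh.bidualMap (QuotSh.J Scheme.fppfPrecoverage S) F (CGrpSh2.Gm Scheme.fppfPrecoverage S))

variable {F F' : BigSite.Ab Scheme.fppfPrecoverage S}

local notation "Md" => CGrpSh2.Gm Scheme.fppfPrecoverage S

/-- Invariance under isomorphisms. -/
theorem Bid.of_iso (h : Bid F') (e : F ≅ F') : Bid F := by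
  let Φ := (HomSh.homShBi Jf).flip.obj Md
  let d : HomSh.homSh Jf (HomSh.homSh Jf F Md) Md ≅ HomSh.homSh Jf (HomSh.homSh Jf F' Md) Md :=
    Φ.mapIso (Φ.mapIso e.op).op
  have hn : HomSh.bidualMap Jf F Md ≫ d.hom = e.hom ≫ HomSh.bidualMap Jf F' Md :=
    GaBidualLib.bidualMap_naturality Jf Md e.hom
  haveI : IsIso (HomSh.bidualMap Jf F' Md) := h
  show IsIso _
  rw [show HomSh.bidualMap Jf F Md = (e.hom ≫ HomSh.bidualMap Jf F' Md) ≫ d.inv by
    rw [← hn, Category.assoc, Iso.hom_inv_id, Category.comp_id]]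
  infer_instance

/-- A sheaf with no nonzero sections. -/
theorem Bid.of_isZero (hF : IsZero F) : Bid F := by
  let Φ := (HomSh.homShBi Jf).flip.obj Md
  have h1 : IsZero (HomSh.homSh Jf F Md) := Φ.map_isZero hF.op
  have h2 : IsZero (HomSh.homSh Jf (HomSh.homSh Jf F Md) Md) := Φ.map_isZero h1.op
  exact ⟨⟨0, hF.eq_of_src _ _, h2.eq_of_src _ _⟩⟩

variable {T : ShortComplex (BigSite.Ab Scheme.fppfPrecoverage S)}

/-- The dual of a split sequence is short exact. -/
theorem epi_dualMap_of_retraction (r : T.X₂ ⟶ T.X₁) (hr : T.f ≫ r = 𝟙 T.X₁) :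
    Epi (GaBidualLib.dualMap Jf Md T.f) := by
  haveI : IsSplitEpi (GaBidualLib.dualMap Jf Md T.f) := IsSplitEpi.mk' ⟨GaBidualLib.dualMap Jf Md r, by
    rw [← HomSh.homShMap_comp, hr, Category.comp_id, HomSh.homShMap_id]⟩
  infer_instance

/-- The middle of a short exact sequence with exact dual. -/
theorem Bid.of_shortExact (hT : T.ShortExact) (he : Epi (GaBidualLib.dualMap Jf Md T.f)) (h₁ : Bid T.X₁)
    (h₃ : Bid T.X₃) : Bid T.X₂ :=
  GaBidualLib.isIso_bidualMap₂ Jf Md hT he h₁ h₃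

/-- The kernel in a short exact sequence with exact dual. -/
theorem Bid.of_kernel (hT : T.ShortExact) (he : Epi (GaBidualLib.dualMap Jf Md T.f)) (h₂ : Bid T.X₂)
    (h₃ : Bid T.X₃) : Bid T.X₁ := by
  haveI := GaBidualLib.mono_dualMap Jf Md hT
  have hD : (ShortComplex.mk (GaBidualLib.dualMap Jf Md T.g) (GaBidualLib.dualMap Jf Md T.f)
      (GaBidualLib.dualMap_comp_zero Jf Md)).ShortExact := { exact := GaBidualLib.exact_dualMap Jf Md hT }
  haveI hm := GaBidualLib.mono_dualMap Jf Md hD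
  let f' := GaBidualLib.dualMap Jf Md (GaBidualLib.dualMap Jf Md T.f)
  let g' := GaBidualLib.dualMap Jf Md (GaBidualLib.dualMap Jf Md T.g)
  haveI : Mono f' := hm
  haveI := hT.mono_f
  have n₁ : HomSh.bidualMap Jf T.X₁ Md ≫ f' = T.f ≫ HomSh.bidualMap Jf T.X₂ Md :=
    GaBidualLib.bidualMap_naturality Jf Md T.f
  have n₂ : HomSh.bidualMap Jf T.X₂ Md ≫ g' = T.g ≫ HomSh.bidualMap Jf T.X₃ Md :=
    GaBidualLib.bidualMap_naturality Jf Md T.g
  haveI : IsIso (HomSh.bidualMap Jf T.X₂ Md) := h₂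
  haveI : IsIso (HomSh.bidualMap Jf T.X₃ Md) := h₃
  haveI : Mono (HomSh.bidualMap Jf T.X₁ Md) := by
    haveI : Mono (HomSh.bidualMap Jf T.X₁ Md ≫ f') := by rw [n₁]; infer_instance
    exact mono_of_mono _ f'
  have hz : (f' ≫ inv (HomSh.bidualMap Jf T.X₂ Md)) ≫ T.g = 0 := by
    refine (cancel_mono (HomSh.bidualMap Jf T.X₃ Md)).1 ?_
    rw [Category.assoc, ← n₂, Category.assoc, IsIso.inv_hom_id_assoc, zero_comp]
    exact GaBidualLib.dualMap_comp_zero Jf Md
      (S := ShortComplex.mk (GaBidualLib.dualMap Jf Md T.g) (GaBidualLib.dualMap Jf Md T.f)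
        (GaBidualLib.dualMap_comp_zero Jf Md))
  obtain ⟨l, hl⟩ := KernelFork.IsLimit.lift' hT.fIsKernel _ hz
  haveI : IsSplitEpi (HomSh.bidualMap Jf T.X₁ Md) := IsSplitEpi.mk' ⟨l, (cancel_mono f').1 (by
    rw [Category.id_comp, Category.assoc, n₁, ← Category.assoc]
    refine (congrArg (· ≫ HomSh.bidualMap Jf T.X₂ Md) hl).trans ?_
    rw [Category.assoc, IsIso.inv_hom_id, Category.comp_id])⟩
  exact isIso_of_mono_of_epi _

/-- A morphism of sheaves bijective on sections after a cover is an isomorphism. -/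
theorem isIso_of_locally_bijective {P Q : BigSite.Ab Scheme.fppfPrecoverage S} (φ : P ⟶ Q) (U : Over S)
    (hU : ∀ Z : Over S, ∃ R : Sieve Z, R ∈ Jf Z ∧ ∀ ⦃Z' : Over S⦄ (h : Z' ⟶ Z), R h → Nonempty (Z' ⟶ U))
    (hb : ∀ (Z : Over S) (_ : Z ⟶ U), Function.Bijective (φ.hom.app (op Z))) : IsIso φ := by
  suffices hall : ∀ Z : (Over S)ᵒᵖ, Function.Bijective (φ.hom.app Z) by
    haveI : IsIso φ.hom := by
      haveI : ∀ Z, IsIso (φ.hom.app Z) := fun Z => (ConcreteCategory.isIso_iff_bijective (φ.hom.app Z)).2 (hall Z)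
      exact NatIso.isIso_of_isIso_app _
    haveI : IsIso ((sheafToPresheaf Jf AddCommGrpCat.{u + 1}).map φ) := inferInstanceAs (IsIso φ.hom)
    exact isIso_of_reflects_iso φ (sheafToPresheaf _ _)
  intro Z
  obtain ⟨R, hR, hR'⟩ := hU Z.unop
  let κ := Σ Y : Over S, {r : Y ⟶ Z.unop // R r}
  have hcov : Sieve.ofArrows (fun k : κ => k.1) (fun k => k.2.1) ∈ Jf Z.unop := by
    refine GrothendieckTopology.superset_covering _ ?_ hR
    intro W k hk
    exact (Sieve.mem_ofArrows_iff _ _ k).2 ⟨⟨W, k, hk⟩, 𝟙 W, (Category.id_comp k).symm⟩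
  have hinj : ∀ x, φ.hom.app Z x = 0 → x = 0 := fun x hx =>
    BigCohLib.p_eq_zero P.property (fun k : κ => k.2.1) hcov x fun k => by
      obtain ⟨z⟩ := hR' k.2.1 k.2.2
      refine (hb k.1 z).1 ?_
      rw [map_zero, NatTrans.naturality_apply φ.hom k.2.1.op x, hx, map_zero]
  refine ⟨fun x y h => sub_eq_zero.1 (hinj _ (by rw [map_sub, h, sub_self])), fun q => ?_⟩
  choose p hp using fun k : κ => (hb k.1 (Classical.choice (hR' k.2.1 k.2.2))).2 (Q.obj.map k.2.1.op q)
  obtain ⟨t, ht⟩ := BigCohLib.p_glue P.property (fun k : κ => k.2.1) hcov p fun k l W a b hab => by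
    have hW : R (a ≫ k.2.1) := R.downward_closed k.2.2 a
    refine (hb W (Classical.choice (hR' _ hW))).1 ?_
    rw [NatTrans.naturality_apply φ.hom a.op, NatTrans.naturality_apply φ.hom b.op, hp, hp, GmExtLib.map_map,
      GmExtLib.map_map, hab]
  refine ⟨t, sub_eq_zero.1 (BigCohLib.p_eq_zero Q.property (fun k : κ => k.2.1) hcov _ fun k => ?_)⟩
  rw [map_sub, sub_eq_zero, ← NatTrans.naturality_apply φ.hom k.2.1.op t]
  exact (congrArg (φ.hom.app (op k.1)) (ht k)).trans (hp k)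

section transport

variable {U : Over S} (e : F.over U ≅ F'.over U)

/-- The restriction of a comparison isomorphism. -/
def rs {W : Over S} (w : W ⟶ U) : F.over W ≅ F'.over W :=
  ((Jf).overMapPullback AddCommGrpCat.{u + 1} w).mapIso e

theorem rs_comp {W W' : Over S} (w : W ⟶ U) (m : W' ⟶ W) :
    ((Jf).overMapPullback AddCommGrpCat.{u + 1} m).map (rs e w).hom = (rs e (m ≫ w)).hom :=
  GmExtLib.map_map (P := HomSh.homSh Jf F F') m w e.hom

theorem rs_inv_comp {W W' : Over S} (w : W ⟶ U) (m : W' ⟶ W) :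
    ((Jf).overMapPullback AddCommGrpCat.{u + 1} m).map (rs e w).inv = (rs e (m ≫ w)).inv :=
  GmExtLib.map_map (P := HomSh.homSh Jf F' F) m w e.inv

/-- Precomposition with the comparison on duals over an object. -/
def dOver {Z : Over S} (z : Z ⟶ U) : (HomSh.homSh Jf F' Md).over Z ⟶ (HomSh.homSh Jf F Md).over Z :=
  ⟨{ app := fun W => AddCommGrpCat.ofHom (AddMonoidHom.mk'
      (fun φ : F'.over W.unop.left ⟶ (Md).over W.unop.left => (rs e (W.unop.hom ≫ z)).hom ≫ φ)
      fun φ ψ => Preadditive.comp_add _ _ _ _ _ _)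
     naturality := fun W W' m => AddCommGrpCat.ext fun (φ : F'.over W.unop.left ⟶ (Md).over W.unop.left) => by
       show (rs e (W'.unop.hom ≫ z)).hom ≫ ((Jf).overMapPullback AddCommGrpCat.{u + 1} m.unop.left).map φ =
         ((Jf).overMapPullback AddCommGrpCat.{u + 1} m.unop.left).map ((rs e (W.unop.hom ≫ z)).hom ≫ φ)
       rw [Functor.map_comp, rs_comp, ← Category.assoc, Over.w m.unop] }⟩

include e

theorem bijective_app_of_over (h : Bid F') {Z : Over S} (z : Z ⟶ U) :
    Function.Bijective ((HomSh.bidualMap Jf F Md).hom.app (op Z)) := by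
  haveI : IsIso (HomSh.bidualMap Jf F' Md) := h
  haveI : IsIso (HomSh.bidualMap Jf F' Md).hom :=
    inferInstanceAs (IsIso ((sheafToPresheaf _ _).map (HomSh.bidualMap Jf F' Md)))
  have hb : Function.Bijective ((HomSh.bidualMap Jf F' Md).hom.app (op Z)) :=
    (ConcreteCategory.isIso_iff_bijective _).1 inferInstance
  let eS : F.obj.obj (op Z) → F'.obj.obj (op Z) := fun s => HomSh.ev Jf (rs e z).hom s
  let eS' : F'.obj.obj (op Z) → F.obj.obj (op Z) := fun s => HomSh.ev Jf (rs e z).inv s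
  have hres : ∀ (W : (Over Z)ᵒᵖ) (s : F.obj.obj (op Z)),
      HomSh.ev Jf (rs e (W.unop.hom ≫ z)).hom (F.obj.map W.unop.hom.op s) = F'.obj.map W.unop.hom.op (eS s) :=
    fun W s => by
      rw [← rs_comp]
      exact GmExtLib.ev_map W.unop.hom (rs e z).hom s
  have hres' : ∀ (W : (Over Z)ᵒᵖ) (s : F'.obj.obj (op Z)),
      HomSh.ev Jf (rs e (W.unop.hom ≫ z)).inv (F'.obj.map W.unop.hom.op s) = F.obj.map W.unop.hom.op (eS' s) :=
    fun W s => by
      rw [← rs_inv_comp]
      exact GmExtLib.ev_map W.unop.hom (rs e z).inv s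
  have hkey : ∀ s : F.obj.obj (op Z),
      (HomSh.bidualMap Jf F' Md).hom.app (op Z) (eS s) = dOver e z ≫ HomSh.evalSect Jf s := fun s => by
    refine Sheaf.hom_ext (NatTrans.ext (funext fun W => AddCommGrpCat.ext fun φ => ?_))
    show HomSh.ev Jf φ (F'.obj.map W.unop.hom.op (eS s)) =
      HomSh.ev Jf φ (HomSh.ev Jf (rs e (W.unop.hom ≫ z)).hom (F.obj.map W.unop.hom.op s))
    rw [hres]
  have hinv : ∀ s, eS' (eS s) = s := fun s => by
    show HomSh.ev Jf ((rs e z).hom ≫ (rs e z).inv) s = s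
    rw [Iso.hom_inv_id]; rfl
  refine ⟨fun s t hst => ?_, fun Θ => ?_⟩
  · rw [← hinv s, ← hinv t]
    refine congrArg eS' (hb.1 ?_)
    rw [hkey, hkey]
    exact congrArg (dOver e z ≫ ·) hst
  · obtain ⟨s', hs'⟩ := hb.2 (dOver e z ≫ Θ)
    refine ⟨eS' s', Sheaf.hom_ext (NatTrans.ext (funext fun W => AddCommGrpCat.ext fun φ => ?_))⟩
    show HomSh.ev Jf φ (F.obj.map W.unop.hom.op (eS' s')) = Θ.hom.app W φ
    rw [← hres']
    let φ' : F'.over W.unop.left ⟶ (Md).over W.unop.left := (rs e (W.unop.hom ≫ z)).inv ≫ φ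
    refine Eq.trans (congrArg (fun f => f.hom.app W φ') hs') ?_
    show Θ.hom.app W ((rs e (W.unop.hom ≫ z)).hom ≫ (rs e (W.unop.hom ≫ z)).inv ≫ φ) = _
    rw [Iso.hom_inv_id_assoc]

/-- Double duality is local on the base. -/
theorem Bid.of_over (h : Bid F')
    (hU : ∀ Z : Over S, ∃ R : Sieve Z, R ∈ Jf Z ∧ ∀ ⦃Z' : Over S⦄ (h : Z' ⟶ Z), R h → Nonempty (Z' ⟶ U)) : Bid F :=
  isIso_of_locally_bijective _ U hU fun _ z => bijective_app_of_over e h z

end transport

end GmBidualLib
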