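import Groth.Agent.GmBidualLib.Split
import Groth.Agent.DiagHopfLib.FieldDesc
import Groth.Agent.DiagHopfLib.Descent
import Groth.Agent.MultClosedLib.Main

/-!
# Double duality for groups of multiplicative type over a field
-/

set_option autoImplicit false
set_option backward.isDefEq.respectTransparency false
set_option linter.style.haveILetI false
set_option maxHeartbeats 1600000
universe u

open CategoryTheory CategoryTheory.Limits MonoidalCategory CartesianMonoidalCategory AlgebraicGeometry Opposite CoactBr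
open GmVanishLib (fns fns_comp_pt fns_injective)
open scoped MonObj TensorProduct

attribute [local instance] CoactBr.braidedAlgSpecOf
attribute [-instance] CategoryTheory.Hom.commGroup

noncomputable section

namespace GmBidualLib

variable {k : Type u} [Field k]

local notation "Jf" => QuotSh.J Scheme.fppfPrecoverage (Spec (CommRingCat.of k))

section pair

variable {C Q : Type u} [CommRing C] [CommRing Q] [Algebra k C] [Algebra k Q]

/-- Pairs of points are unique. -/
theorem pair_ext {Z : Over (Spec (CommRingCat.of k))} {w w' : Z ⟶ sp k (C ⊗[k] Q)}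
    (h₁ : w ≫ pt (Algebra.TensorProduct.includeLeft : C →ₐ[k] C ⊗[k] Q) =
      w' ≫ pt (Algebra.TensorProduct.includeLeft : C →ₐ[k] C ⊗[k] Q))
    (h₂ : w ≫ pt (Algebra.TensorProduct.includeRight : Q →ₐ[k] C ⊗[k] Q) =
      w' ≫ pt (Algebra.TensorProduct.includeRight : Q →ₐ[k] C ⊗[k] Q)) : w = w' := by
  refine fns_injective (RingHom.ext fun t => ?_)
  induction t using TensorProduct.induction_on with
  | zero => rw [map_zero, map_zero]
  | add a b ha hb => rw [map_add, map_add, ha, hb]
  | tmul c q =>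
    have e : c ⊗ₜ[k] q = (Algebra.TensorProduct.includeLeft : C →ₐ[k] C ⊗[k] Q) c *
        (Algebra.TensorProduct.includeRight : Q →ₐ[k] C ⊗[k] Q) q := by simp
    rw [e, map_mul, map_mul, ← fns_comp_pt, ← fns_comp_pt, ← fns_comp_pt, ← fns_comp_pt, h₁, h₂]

/-- The pair of two points. -/
def wpair {Z : Over (Spec (CommRingCat.of k))} (z : Z ⟶ sp k C) (x : Z ⟶ sp k Q) : Z ⟶ sp k (C ⊗[k] Q) :=
  (exists_pair z x).choose

theorem wpair_left {Z : Over (Spec (CommRingCat.of k))} (z : Z ⟶ sp k C) (x : Z ⟶ sp k Q) :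
    wpair z x ≫ pt (Algebra.TensorProduct.includeLeft : C →ₐ[k] C ⊗[k] Q) = z :=
  (exists_pair z x).choose_spec.1

theorem wpair_right {Z : Over (Spec (CommRingCat.of k))} (z : Z ⟶ sp k C) (x : Z ⟶ sp k Q) :
    wpair z x ≫ pt (Algebra.TensorProduct.includeRight : Q →ₐ[k] C ⊗[k] Q) = x :=
  (exists_pair z x).choose_spec.2

theorem comp_wpair {Z Z' : Over (Spec (CommRingCat.of k))} (φ : Z' ⟶ Z) (z : Z ⟶ sp k C) (x : Z ⟶ sp k Q) :
    φ ≫ wpair z x = wpair (φ ≫ z) (φ ≫ x) :=
  pair_ext (by rw [wpair_left, Category.assoc, wpair_left]) (by rw [wpair_right, Category.assoc, wpair_right])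

end pair

section twist

variable {A : Type u} [CommRing A] [HopfAlgebra k A] [Coalgebra.IsCocomm k A] {N : Type u} [CommGroup N]
  {L : Type u} [CommRing L] [Algebra k L] (E : Groth.Agent.TorusField.Split k A (Additive N) L)

/-- The monomials of a splitting. -/
def splitMap : MonoidAlgebra k N →ₐ[k] L ⊗[k] A :=
  MonoidAlgebra.lift k (L ⊗[k] A) N
    { toFun := fun n => E.e (Additive.ofMul n)
      map_one' := by rw [ofMul_one, E.e_zero]
      map_mul' := fun a b => by rw [ofMul_mul, E.e_add] }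

theorem splitMap_single (n : N) : splitMap E (MonoidAlgebra.single n 1) = E.e (Additive.ofMul n) := by
  simp [splitMap]

/-- The comparison on points. -/
def tw {Z : Over (Spec (CommRingCat.of k))} (z : Z ⟶ sp k L) (x : Z ⟶ sp k A) : Z ⟶ sp k (MonoidAlgebra k N) :=
  wpair z x ≫ pt (splitMap E)

theorem comp_tw {Z Z' : Over (Spec (CommRingCat.of k))} (φ : Z' ⟶ Z) (z : Z ⟶ sp k L) (x : Z ⟶ sp k A) :
    φ ≫ tw E z x = tw E (φ ≫ z) (φ ≫ x) := by
  rw [tw, tw, ← comp_wpair, Category.assoc]

theorem tw_mul {Z : Over (Spec (CommRingCat.of k))} (z : Z ⟶ sp k L) (x y : Z ⟶ sp k A) :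
    tw E z (x * y) = tw E z x * tw E z y := by
  let t : Z ⟶ sp k (L ⊗[k] (A ⊗[k] A)) := wpair z (wpair x y)
  let f : (A →ₐ[k] A ⊗[k] A) → (L ⊗[k] A →ₐ[k] L ⊗[k] (A ⊗[k] A)) := fun g =>
    Algebra.TensorProduct.map (AlgHom.id k L) g
  have hp : ∀ g : A →ₐ[k] A ⊗[k] A, t ≫ pt (f g) = wpair z (wpair x y ≫ pt g) := fun g => by
    refine pair_ext ?_ ?_
    · rw [wpair_left, Category.assoc, ← pt_comp]
      have e : (f g).comp (Algebra.TensorProduct.includeLeft : L →ₐ[k] L ⊗[k] A) =
          (Algebra.TensorProduct.includeLeft : L →ₐ[k] L ⊗[k] (A ⊗[k] A)) := AlgHom.ext fun l => by simp [f]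
      rw [e, wpair_left]
    · rw [wpair_right, Category.assoc, ← pt_comp]
      have e : (f g).comp (Algebra.TensorProduct.includeRight : A →ₐ[k] L ⊗[k] A) =
          (Algebra.TensorProduct.includeRight : A ⊗[k] A →ₐ[k] L ⊗[k] (A ⊗[k] A)).comp g :=
        AlgHom.ext fun a => by simp [f]
      rw [e, pt_comp, ← Category.assoc, wpair_right]
  have hm : pt (Algebra.TensorProduct.includeLeft : A →ₐ[k] A ⊗[k] A) * pt Algebra.TensorProduct.includeRight =
      pt (Bialgebra.comulAlgHom k A) := by
    rw [Groth.Agent.DiagRep.pt_mul_conv, ← Groth.Agent.DiagRep.toConv_comul]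
  have hxy : x * y = wpair x y ≫ pt (Bialgebra.comulAlgHom k A) := by
    rw [← hm, MonObj.comp_mul, wpair_left, wpair_right]
  have key : pt ((f (Bialgebra.comulAlgHom k A)).comp (splitMap E)) =
      pt ((f Algebra.TensorProduct.includeLeft).comp (splitMap E)) *
        pt ((f Algebra.TensorProduct.includeRight).comp (splitMap E)) := by
    rw [Groth.Agent.DiagRep.pt_mul_conv]
    refine congrArg pt (MonoidAlgebra.algHom_ext (fun n => ?_) (Subsingleton.elim _ _))
    simp only [AlgHom.convMul_apply, MonoidAlgebra.comul_single, CommSemiring.comul_apply, TensorProduct.map_tmul,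
      Algebra.TensorProduct.lift_tmul, AlgHom.comp_apply, splitMap_single]
    rw [show (MonoidAlgebra.lsingle n) (1 : k) = MonoidAlgebra.single n 1 from rfl, splitMap_single]
    exact (E.gl (Additive.ofMul n)).1
  have h1 : wpair x y ≫ pt (Algebra.TensorProduct.includeLeft : A →ₐ[k] A ⊗[k] A) = x := wpair_left x y
  have h2 : wpair x y ≫ pt (Algebra.TensorProduct.includeRight : A →ₐ[k] A ⊗[k] A) = y := wpair_right x y
  calc tw E z (x * y) = t ≫ pt ((f (Bialgebra.comulAlgHom k A)).comp (splitMap E)) := by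
        rw [tw, hxy, ← hp, pt_comp, Category.assoc]
    _ = tw E z x * tw E z y := by
        rw [key, MonObj.comp_mul, pt_comp, pt_comp, ← Category.assoc, ← Category.assoc, hp, hp, h1, h2]
        rfl

theorem tw_bijective {Z : Over (Spec (CommRingCat.of k))} (z : Z ⟶ sp k L) : Function.Bijective (tw E z) := by
  letI : Algebra k Γ(Z.left, ⊤) := (strMap Z).toAlgebra
  letI : Algebra L Γ(Z.left, ⊤) := (fns z).toAlgebra
  haveI : IsScalarTower k L Γ(Z.left, ⊤) := IsScalarTower.of_algebraMap_eq fun r => (fns_algebraMap z r).symm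
  have hlin : ∀ (w : Z ⟶ sp k (L ⊗[k] A)) (_ : w ≫ pt (Algebra.TensorProduct.includeLeft : L →ₐ[k] L ⊗[k] A) = z)
      (l : L) (t : L ⊗[k] A), fns w (l • t) = l • fns w t := fun w hw l t => by
    rw [Algebra.smul_def, map_mul, Algebra.smul_def]
    refine congrArg (· * fns w t) ?_
    show fns w ((Algebra.TensorProduct.includeLeft : L →ₐ[k] L ⊗[k] A) l) = fns z l
    rw [← fns_comp_pt, hw]
  refine ⟨fun x x' hxx => ?_, fun y => ?_⟩
  · have h : wpair z x = wpair z x' := by
      let lin : (w : Z ⟶ sp k (L ⊗[k] A)) → w ≫ pt (Algebra.TensorProduct.includeLeft : L →ₐ[k] L ⊗[k] A) = z →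
          (L ⊗[k] A →ₗ[L] Γ(Z.left, ⊤)) := fun w hw =>
        { toFun := fns w
          map_add' := map_add _
          map_smul' := hlin w hw }
      have hl : lin _ (wpair_left z x) = lin _ (wpair_left z x') := E.e.ext fun n => by
        show fns (wpair z x) (E.e n) = fns (wpair z x') (E.e n)
        rw [← ofMul_toMul n, ← splitMap_single, ← fns_comp_pt, ← fns_comp_pt]
        exact DFunLike.congr_fun (congrArg fns hxx) _
      exact fns_injective (RingHom.ext fun t => LinearMap.congr_fun hl t)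
    rw [← wpair_right z x, h, wpair_right]
  · let Φ : L ⊗[k] A →ₗ[L] Γ(Z.left, ⊤) :=
      E.e.constr L fun n => fns y (MonoidAlgebra.single (Additive.toMul n) 1)
    have hΦ : ∀ n, Φ (E.e n) = fns y (MonoidAlgebra.single (Additive.toMul n) 1) := fun n => E.e.constr_basis L _ n
    have hone : Φ 1 = 1 := by
      rw [← E.e_zero, hΦ, toMul_zero, ← MonoidAlgebra.one_def, map_one]
    have hmul : ∀ a b, Φ (a * b) = Φ a * Φ b := by
      have h : (LinearMap.mul L (L ⊗[k] A)).compr₂ Φ = (LinearMap.mul L Γ(Z.left, ⊤)).compl₁₂ Φ Φ :=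
        E.e.ext fun a => E.e.ext fun b => by
          show Φ (E.e a * E.e b) = Φ (E.e a) * Φ (E.e b)
          rw [← E.e_add, hΦ, hΦ, hΦ, ← map_mul, toMul_add, MonoidAlgebra.single_mul_single, mul_one]
      exact fun a b => LinearMap.congr_fun₂ h a b
    let Ψ : L ⊗[k] A →ₐ[L] Γ(Z.left, ⊤) := AlgHom.ofLinearMap Φ hone hmul
    obtain ⟨w, hw⟩ := exists_point (Z := Z) (Ψ.restrictScalars k).toRingHom fun r => (Ψ.restrictScalars k).commutes r
    have hwl : w ≫ pt (Algebra.TensorProduct.includeLeft : L →ₐ[k] L ⊗[k] A) = z :=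
      fns_injective (RingHom.ext fun l => by
        rw [fns_comp_pt, hw]
        exact Ψ.commutes l)
    let x := w ≫ pt (Algebra.TensorProduct.includeRight : A →ₐ[k] L ⊗[k] A)
    refine ⟨x, ?_⟩
    have hwx : wpair z x = w := pair_ext ((wpair_left z x).trans hwl.symm) (wpair_right z x)
    show wpair z x ≫ pt (splitMap E) = y
    rw [hwx]
    refine fns_injective (MonoidAlgebra.ringHom_ext (fun r => ?_) (fun n => ?_))
    · show fns (w ≫ pt (splitMap E)) (algebraMap k _ r) = fns y (algebraMap k _ r)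
      rw [fns_algebraMap, fns_algebraMap]
    · rw [fns_comp_pt, splitMap_single, hw]
      show Φ (E.e (Additive.ofMul n)) = _
      rw [hΦ]
      rfl

/-- The comparison of sheaves over the splitting algebra. -/
def twMap : CategoryTheory.Sheaf.over (GmVanishLib.shf (k := k) A) (sp k L) ⟶
    CategoryTheory.Sheaf.over (GmVanishLib.shf (k := k) (MonoidAlgebra k N)) (sp k L) :=
  letI : ∀ Z : Over (Spec (CommRingCat.of k)), CommGroup (Z ⟶ sp k A) := fun _ => CategoryTheory.Hom.commGroup
  letI : ∀ Z : Over (Spec (CommRingCat.of k)), CommGroup (Z ⟶ sp k (MonoidAlgebra k N)) := fun _ =>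
    CategoryTheory.Hom.commGroup
  ⟨{ app := fun W => AddCommGrpCat.ofHom (AddMonoidHom.mk'
      (show (GmVanishLib.shf (k := k) A).obj.obj (op W.unop.left) →
          (GmVanishLib.shf (k := k) (MonoidAlgebra k N)).obj.obj (op W.unop.left) from
        fun s => GmExtLib.ptSec (tw E W.unop.hom s.down.toMul))
      fun s t => (congrArg GmExtLib.ptSec (tw_mul E W.unop.hom s.down.toMul t.down.toMul)).trans
        (GmExtLib.ptSec_mul _ _))
     naturality := fun W W' m => AddCommGrpCat.ext fun s => ULift.ext _ _ (congrArg Additive.ofMul (by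
       show tw E W'.unop.hom (m.unop.left ≫ _) = m.unop.left ≫ tw E W.unop.hom _
       rw [comp_tw, Over.w m.unop]
       rfl)) }⟩

theorem isIso_twMap : IsIso (twMap E) := by
  haveI : IsIso (twMap E).hom := by
    haveI : ∀ W, IsIso ((twMap E).hom.app W) := fun W => by
      refine (ConcreteCategory.isIso_iff_bijective _).2 ⟨fun s t h => ?_, fun q => ?_⟩
      · have h' : tw E W.unop.hom s.down.toMul = tw E W.unop.hom t.down.toMul :=
          congrArg (fun v => v.down.toMul) h
        exact ULift.ext _ _ (congrArg Additive.ofMul ((tw_bijective E W.unop.hom).1 h'))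
      · obtain ⟨x, hx⟩ := (tw_bijective E W.unop.hom).2 q.down.toMul
        exact ⟨GmExtLib.ptSec x, ULift.ext _ _ (congrArg Additive.ofMul hx)⟩
    exact NatIso.isIso_of_isIso_app _
  haveI : IsIso ((sheafToPresheaf _ AddCommGrpCat.{u + 1}).map (twMap E)) := inferInstanceAs (IsIso (twMap E).hom)
  exact isIso_of_reflects_iso (twMap E) (sheafToPresheaf _ _)

end twist

/-- A finite field extension covers. -/
theorem exists_sieve_field (L : Type u) [Field L] [Algebra k L] [Module.Finite k L]
    (Z : Over (Spec (CommRingCat.of k))) :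
    ∃ R : Sieve Z, R ∈ Jf Z ∧ ∀ ⦃Z' : Over (Spec (CommRingCat.of k))⦄ (h : Z' ⟶ Z), R h → Nonempty (Z' ⟶ sp k L) := by
  let T := Over.mk (𝟙 (Spec (CommRingCat.of k)))
  let b : sp k L ⟶ T := Over.homMk (sp k L).hom (Category.comp_id _)
  have hb : Sieve.ofArrows (fun _ : PUnit.{u + 1} => sp k L) (fun _ => b) ∈ Jf T := by
    refine AdeqModLib.ofArrows_mem _ ((Scheme.ofArrows_mem_precoverage_iff _).2 ⟨fun p => ?_, fun _ => ?_⟩)
    · haveI : Nonempty ↥(sp k L).left := inferInstanceAs (Nonempty (PrimeSpectrum L))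
      haveI : Subsingleton ↥(Spec (CommRingCat.of k)) := inferInstanceAs (Subsingleton (PrimeSpectrum k))
      haveI : Surjective (sp k L).hom := ⟨fun q => ⟨Classical.arbitrary _, Subsingleton.elim _ _⟩⟩
      obtain ⟨q, hq⟩ := (sp k L).hom.surjective p
      exact ⟨PUnit.unit, q, hq⟩
    · have hfp : Algebra.FinitePresentation k L := Algebra.FinitePresentation.of_finiteType.1 inferInstance
      change (@Flat ⊓ @LocallyOfFinitePresentation : MorphismProperty Scheme.{u})
        (Spec.map (CommRingCat.ofHom (algebraMap k L)))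
      exact ⟨(HasRingHomProperty.Spec_iff (P := @Flat)).2 (RingHom.flat_algebraMap_iff.2 inferInstance),
        (HasRingHomProperty.Spec_iff (P := @LocallyOfFinitePresentation)).2
          (RingHom.finitePresentation_algebraMap.2 hfp)⟩
  refine ⟨_, (Jf).pullback_stable (Over.mkIdTerminal.from Z) hb, fun Z' h hh => ?_⟩
  obtain ⟨_, c, -⟩ := (Sieve.mem_ofArrows_iff _ _ _).1 hh
  exact ⟨c⟩

/-- Groups of multiplicative type are their double duals. -/
theorem bid_of_mult {A : Type u} [CommRing A] [HopfAlgebra k A] [Coalgebra.IsCocomm k A] [Algebra.FiniteType k A]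
    (h : SGA3b.IsMultType k A) : Bid (GmVanishLib.shf (k := k) A) := by
  obtain ⟨L, _, _, _, -, N, _, -, ⟨e⟩⟩ := Groth.Agent.DiagHopf.isotrivial_of_field inferInstance h
  obtain ⟨E⟩ := Groth.Agent.DiagHopf.exists_split_of_bialgEquiv e
  haveI := isIso_twMap E
  exact Bid.of_over (asIso (twMap E)) bid_monoidAlgebra (exists_sieve_field L)

end GmBidualLib
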