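import Groth.Agent.GmBidualLib.GaSub
import Groth.Agent.GmBidualLib.Mult

/-!
# Double duality in positive characteristic
-/

set_option autoImplicit false
set_option backward.isDefEq.respectTransparency false
set_option linter.style.haveILetI false
set_option maxHeartbeats 1000000
universe u

open CategoryTheory CategoryTheory.Limits MonoidalCategory CartesianMonoidalCategory AlgebraicGeometry Opposite CoactBr
open GmVanishLib
open scoped MonObj TensorProduct

attribute [local instance] CoactBr.braidedAlgSpecOf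
attribute [-instance] CategoryTheory.Hom.commGroup

noncomputable section

namespace GmBidualLib

variable {k : Type u} [Field k]

/-- Groups of multiplicative type given by a trivial unipotent part. -/
theorem bid_of_mult_quotient {A : Type u} [CommRing A] [HopfAlgebra k A] [Coalgebra.IsCocomm k A]
    [Algebra.FiniteType k A] (J : Ideal A) [J.IsHopfIdeal k] (hJ : J = ⊥) (h : SGA3b.IsMultTypeConst k (A ⧸ J)) :
    Bid (shf (k := k) A) := by
  let q := Bialgebra.Quotient.mkBialgHom (R := k) J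
  haveI : Coalgebra.IsCocomm k (A ⧸ J) := Groth.Agent.MultClosed.isCocomm_of_surjective q Ideal.Quotient.mk_surjective
  haveI : Algebra.FiniteType k (A ⧸ J) :=
    Algebra.FiniteType.of_surjective (Ideal.Quotient.mkₐ k J) Ideal.Quotient.mk_surjective
  haveI : IsMonHom (pt (q : A →ₐ[k] A ⧸ J)) := SekSuwa.isMonHom_specHom q
  haveI : IsIso (pt (q : A →ₐ[k] A ⧸ J)) := isIso_pt_of_bijective _
    ⟨fun x y hxy => by
      have h1 : x - y ∈ J := (Ideal.Quotient.eq).1 hxy
      rw [hJ] at h1
      exact sub_eq_zero.1 h1, Ideal.Quotient.mk_surjective⟩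
  obtain ⟨e⟩ := exists_ptsIso (pt (q : A →ₐ[k] A ⧸ J)) inferInstance
  obtain ⟨R', _, _, hff, N, _, ⟨e'⟩⟩ := h
  haveI := hff
  obtain ⟨E⟩ := Groth.Agent.DiagHopf.exists_split_of_bialgEquiv e'
  exact (bid_of_mult (Groth.Agent.DiagHopf.isMultType_of_split E)).of_iso e.symm

/-- The image of a map out of the coordinate ring of the additive group. -/
theorem exists_bid_image (p : ℕ) [Fact p.Prime] [CharP k p] {A : Type u} [CommRing A] [HopfAlgebra k A]
    {H : Type u} [CommRing H] [HopfAlgebra k H] [Coalgebra.IsCocomm k H] [Algebra.FiniteType k H]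
    [IsCommMonObj (sp k H)] (v : sp k H ≅ Red.Ga (Spec (CommRingCat.of k))) (hv : IsMonHom v.hom)
    (φ : H →ₐc[k] A) (b : H) (hb0 : Coalgebra.counit (R := k) b = 0) (hb : φ b ≠ 0) :
    ∃ (B : Type u) (_ : CommRing B) (_ : HopfAlgebra k B) (_ : Coalgebra.IsCocomm k B) (_ : Algebra.FiniteType k B)
      (ψ : B →ₐc[k] A), Function.Injective ψ ∧ (∃ y : B, Coalgebra.counit (R := k) y = 0 ∧ ψ y ≠ 0) ∧
        Bid (shf (k := k) B) := by
  haveI := hv
  haveI := isHopfIdeal_bot (k := k) A
  haveI hK : ((⊥ : Ideal A).comap (φ : H →ₐ[k] A)).IsHopfIdeal k := Groth.Agent.UnipHopf.isHopfIdeal_comap φ ⊥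
  generalize hKdef : (⊥ : Ideal A).comap (φ : H →ₐ[k] A) = K at hK
  have hker : ∀ y, y ∈ K ↔ φ y = 0 := fun y => by rw [← hKdef]; exact Iff.rfl
  let q := Bialgebra.Quotient.mkBialgHom (R := k) K
  let ψ₀ : (H ⧸ K) →ₐ[k] A := Ideal.Quotient.liftₐ K (φ : H →ₐ[k] A) fun y hy => (hker y).1 hy
  have hψ : ∀ y, ψ₀ (Ideal.Quotient.mk K y) = φ y := fun y => rfl
  let ψ : (H ⧸ K) →ₐc[k] A := BialgHom.ofAlgHom ψ₀
    (AlgHom.ext fun z => by
      obtain ⟨y, rfl⟩ := Ideal.Quotient.mk_surjective z
      show Coalgebra.counit (R := k) (φ y) = Coalgebra.counit (R := k) (q y)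
      rw [CoalgHomClass.counit_comp_apply, CoalgHomClass.counit_comp_apply])
    (AlgHom.ext fun z => by
      obtain ⟨y, rfl⟩ := Ideal.Quotient.mk_surjective z
      show Algebra.TensorProduct.map ψ₀ ψ₀ (CoalgebraStruct.comul (R := k) (q y)) = CoalgebraStruct.comul (R := k) (φ y)
      rw [← CoalgHomClass.map_comp_comul_apply q, ← CoalgHomClass.map_comp_comul_apply φ]
      generalize CoalgebraStruct.comul (R := k) y = t
      induction t using TensorProduct.induction_on with
      | zero => simp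
      | add s t hs ht => simp only [map_add, hs, ht]
      | tmul s t => rfl)
  haveI hcc : Coalgebra.IsCocomm k (H ⧸ K) := Groth.Agent.MultClosed.isCocomm_of_surjective q Ideal.Quotient.mk_surjective
  haveI : Algebra.FiniteType k (H ⧸ K) :=
    Algebra.FiniteType.of_surjective (Ideal.Quotient.mkₐ k K) Ideal.Quotient.mk_surjective
  refine ⟨H ⧸ K, inferInstance, inferInstance, inferInstance, inferInstance, ψ, fun x y hxy => ?_,
    ⟨q b, by rw [CoalgHomClass.counit_comp_apply, hb0], hb⟩, ?_⟩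
  · obtain ⟨x, rfl⟩ := Ideal.Quotient.mk_surjective x
    obtain ⟨y, rfl⟩ := Ideal.Quotient.mk_surjective y
    rw [Ideal.Quotient.eq, hker, map_sub, sub_eq_zero]
    exact hxy
  exact bid_ga_quotient v hv (bid_Ga_charP p) (liftsLoc_affine p H) K

/-- Commutative affine groups of finite type over a field of positive characteristic are their double duals. -/
theorem bid_affine_charP (p : ℕ) [Fact p.Prime] [CharP k p] (A : Type u) [CommRing A] [HopfAlgebra k A]
    [Algebra.FiniteType k A] [Coalgebra.IsCocomm k A] : Bid (shf (k := k) A) := by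
  haveI : IsNoetherianRing A := Algebra.FiniteType.isNoetherianRing k A
  -- the coordinate ring of the additive group
  obtain ⟨e, -⟩ := GmExtLib.exists_lineIso (CommRingCat.of k)
  haveI : IsAffine (Red.Ga (Spec (CommRingCat.of k))).left := by
    haveI : IsAffine (GmExtLib.ao (𝟙 (Spec (CommRingCat.of k))) (Polynomial k)).left :=
      inferInstanceAs (IsAffine (Spec (CommRingCat.of (Polynomial k))))
    haveI : IsIso e.inv.left := ((Over.forget _).mapIso e.symm).isIso_hom
    exact .of_isIso e.inv.left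
  obtain ⟨H, _, _, v, hv, hv'⟩ := DeligneKillLib.exists_sp (Red.Ga (Spec (CommRingCat.of k)))
  haveI := hv
  haveI : IsCommMonObj (sp k H) := ExtGm.isCommMonObj_of_mono v.hom
  haveI : Coalgebra.IsCocomm k H := ExtGm.isCocomm_of_comm
  haveI : Algebra.FiniteType k H := by
    let c : sp k (Polynomial k) ≅ GmExtLib.ao (𝟙 (Spec (CommRingCat.of k))) (Polynomial k) :=
      Over.isoMk (Iso.refl _) ((Category.id_comp _).trans (Category.comp_id _))
    let w : sp k (Polynomial k) ≅ sp k H := c ≪≫ e ≪≫ v.symm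
    obtain ⟨ψ', hψ'⟩ := Groth.Agent.DiagRep.exists_pt w.inv
    obtain ⟨ψ, hψ⟩ := Groth.Agent.DiagRep.exists_pt w.hom
    refine Algebra.FiniteType.of_surjective ψ' fun y => ⟨ψ y, ?_⟩
    have h2 : ψ'.comp ψ = AlgHom.id k _ := pt_injective (by rw [pt_comp, ← hψ, ← hψ', Iso.inv_hom_id, pt_id])
    exact AlgHom.congr_fun h2 y
  suffices h : ∀ I : Ideal A, ∀ (Q : Type u) [CommRing Q] [HopfAlgebra k Q] [Coalgebra.IsCocomm k Q]
      (π : A →ₐc[k] Q), Function.Surjective π → RingHom.ker (π : A →+* Q) = I → Bid (shf (k := k) Q) from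
    h _ A (BialgHom.id k A) Function.surjective_id rfl
  intro I
  induction I using WellFoundedGT.induction with
  | ind I ih =>
    intro Q _ _ _ π hπ hI
    haveI : Algebra.FiniteType k Q := Algebra.FiniteType.of_surjective (π : A →ₐ[k] Q) hπ
    obtain ⟨J, hJH, hmult, -, B, _, _, φ₁, hinj, hJ, hU⟩ := Groth.Agent.S4130.result k Q
    by_cases hJ0 : J = ⊥
    · exact bid_of_mult_quotient J hJ0 hmult
    -- a primitive function
    obtain ⟨b₁, hb₁, hb₁'⟩ : ∃ b : B, Coalgebra.counit (R := k) b = 0 ∧ φ₁ b ≠ 0 := by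
      by_contra hne
      push Not at hne
      refine hJ0 (hJ.trans ((Ideal.map_eq_bot_iff_le_ker _).2 fun b hb => ?_))
      exact hne b hb
    obtain ⟨y, hy0, hy⟩ := Groth.Agent.UnipHopf.exists_primitive_of_exhaustive
      (Groth.Agent.UnipHopf.exhaustive_of_isUnipotent hU) (a := b₁) (by
        rw [hb₁, zero_smul]
        intro h
        exact hb₁' (by rw [h, map_zero]))
    have hx : CoalgebraStruct.comul (R := k) (φ₁ y) = φ₁ y ⊗ₜ[k] (1 : Q) + (1 : Q) ⊗ₜ[k] φ₁ y := by
      rw [← CoalgHomClass.map_comp_comul_apply φ₁, hy, map_add, TensorProduct.map_tmul, TensorProduct.map_tmul]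
      simp
    have hx0 : φ₁ y ≠ 0 := fun h => hy0 (hinj (h.trans (map_zero φ₁).symm))
    obtain ⟨φ₂, b₂, hb₂, hb₂'⟩ := exists_bialgHom_of_primitive (φ₁ y) hx0 hx v hv hv'
    obtain ⟨B', _, _, _, _, ψ, hψ, ⟨b₃, hb₃, hb₃'⟩, hB'⟩ := exists_bid_image p v hv φ₂ b₂ hb₂ hb₂'
    -- the kernel
    haveI : (Ideal.map (ψ : B' →+* Q) (RingHom.ker (Bialgebra.counitAlgHom k B'))).IsHopfIdeal k :=
      Groth.Agent.S4130.isHopfIdeal_map ψ
    generalize hJ' : Ideal.map (ψ : B' →+* Q) (RingHom.ker (Bialgebra.counitAlgHom k B')) = J' at *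
    let q := Bialgebra.Quotient.mkBialgHom (R := k) J'
    haveI : Coalgebra.IsCocomm k (Q ⧸ J') := Groth.Agent.MultClosed.isCocomm_of_surjective q Ideal.Quotient.mk_surjective
    have hq : RingHom.ker (q : Q →+* Q ⧸ J') = J' := Ideal.mk_ker
    have hlt : I < RingHom.ker (q.comp π : A →+* Q ⧸ J') := by
      refine lt_of_le_not_ge (fun a ha => ?_) fun hle => ?_
      · rw [← hI] at ha
        show q (π a) = 0
        rw [show π a = 0 from ha, map_zero]
      · obtain ⟨a, ha⟩ := hπ (ψ b₃)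
        have h1 : q (π a) = 0 := by
          rw [ha]
          refine Ideal.Quotient.eq_zero_iff_mem.2 ?_
          rw [← hJ']
          exact Ideal.mem_map_of_mem (ψ : B' →+* Q) hb₃
        have h2 : a ∈ RingHom.ker (π : A →+* Q) := hI ▸ hle h1
        exact hb₃' (ha ▸ h2)
    have hQ' : Bid (shf (k := k) (Q ⧸ J')) :=
      ih _ hlt (Q ⧸ J') (q.comp π) (Ideal.Quotient.mk_surjective.comp hπ) rfl
    obtain ⟨w, hses⟩ := shortExact_of_injective ψ hψ q Ideal.Quotient.mk_surjective (hq.trans hJ'.symm)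
    exact Bid.of_shortExact hses (epi_dualMap_of_liftsLoc hses (liftsLoc_affine p B')) hQ' hB'

end GmBidualLib
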