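import Groth.Agent.GmBidualLib.Line
import Groth.Agent.GmBidualLib.Basic
import Groth.Agent.GmVanishLib.Field
import Groth.Agent.S13465
import Groth.Agent.S13466

/-!
# Subgroups of the additive group are their double duals
-/

set_option autoImplicit false
set_option backward.isDefEq.respectTransparency false
set_option linter.style.haveILetI false
set_option maxHeartbeats 1000000
universe u

open CategoryTheory CategoryTheory.Limits MonoidalCategory CartesianMonoidalCategory AlgebraicGeometry Opposite CoactBr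
open GmVanishLib (shf shfMap LiftsLoc)
open scoped MonObj TensorProduct

attribute [local instance] CoactBr.braidedAlgSpecOf
attribute [-instance] CategoryTheory.Hom.commGroup

noncomputable section

namespace GmBidualLib

variable {k : Type u} [Field k]

local notation "Jf" => QuotSh.J Scheme.fppfPrecoverage (Spec (CommRingCat.of k))

/-- The dual is exact when homomorphisms out of the quotient lift. -/
theorem epi_dualMap_of_liftsLoc {T : ShortComplex (BigSite.Ab Scheme.fppfPrecoverage (Spec (CommRingCat.of k)))}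
    (hT : T.ShortExact) (h : LiftsLoc T.X₃) :
    Epi (GaBidualLib.dualMap Jf (CGrpSh2.Gm Scheme.fppfPrecoverage (Spec (CommRingCat.of k))) T.f) :=
  GaBidualLib.epi_dualMap _ _ hT (fun k' d w' _ h' w'' => GmExtLib.exact_homShMap _ k' d w' h' w'')
    (fun k' _ => GmExtLib.mono_homShMap _ k') (GmVanishLib.isZero_of_liftsLoc h)

theorem natCast_eq_zero (p : ℕ) [CharP k p] : (p : Γ(Spec (CommRingCat.of k), ⊤)) = 0 := by
  apply (Scheme.ΓSpecIso (CommRingCat.of k)).commRingCatIsoToRingEquiv.injective
  rw [map_natCast, map_zero]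
  exact CharP.cast_eq_zero k p

/-- The additive group in positive characteristic. -/
theorem bid_Ga_charP (p : ℕ) [Fact p.Prime] [CharP k p] :
    Bid (CGrpSh2.Ga Scheme.fppfPrecoverage (Spec (CommRingCat.of k))) :=
  Groth.Agent.S13465.result _ p (natCast_eq_zero p)

/-- The additive group in characteristic zero. -/
theorem bid_Ga_charZero [CharZero k] : Bid (CGrpSh2.Ga Scheme.fppfPrecoverage (Spec (CommRingCat.of k))) := by
  refine Groth.Agent.S13466.result _ fun n hn => ?_
  have h : IsUnit (n : k) := isUnit_iff_ne_zero.2 (Nat.cast_ne_zero.2 hn.ne')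
  simpa using h.map (Scheme.ΓSpecIso (CommRingCat.of k)).inv.hom

/-- Quotients of the coordinate ring of the additive group. -/
theorem bid_ga_quotient {H : Type u} [CommRing H] [HopfAlgebra k H] [Coalgebra.IsCocomm k H] [Algebra.FiniteType k H]
    [IsCommMonObj (sp k H)] (v : sp k H ≅ Red.Ga (Spec (CommRingCat.of k))) (hv : IsMonHom v.hom)
    (hGa : Bid (CGrpSh2.Ga Scheme.fppfPrecoverage (Spec (CommRingCat.of k))))
    (hH : LiftsLoc (shf (k := k) H)) (K : Ideal H) [K.IsHopfIdeal k] [Coalgebra.IsCocomm k (H ⧸ K)] :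
    Bid (shf (k := k) (H ⧸ K)) := by
  haveI := hv
  obtain ⟨e⟩ := GmVanishLib.exists_ptsIso v.hom inferInstance
  let q := Bialgebra.Quotient.mkBialgHom (R := k) K
  by_cases hK : K = ⊥
  · haveI : IsMonHom (pt (q : H →ₐ[k] H ⧸ K)) := SekSuwa.isMonHom_specHom q
    haveI : IsIso (pt (q : H →ₐ[k] H ⧸ K)) := GmVanishLib.isIso_pt_of_bijective _
      ⟨fun x y hxy => by
        have h1 : x - y ∈ K := (Ideal.Quotient.eq).1 hxy
        rw [hK] at h1
        exact sub_eq_zero.1 h1, Ideal.Quotient.mk_surjective⟩
    obtain ⟨e'⟩ := GmVanishLib.exists_ptsIso (pt (q : H →ₐ[k] H ⧸ K) ≫ v.hom) inferInstance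
    exact hGa.of_iso e'
  · obtain ⟨x, hx, hb⟩ := exists_coord v hv
    obtain ⟨φ, hφ, hK'⟩ := exists_additive x hx hb K hK
    obtain ⟨w, hses⟩ := GmVanishLib.shortExact_of_injective φ hφ q Ideal.Quotient.mk_surjective
      (Ideal.mk_ker.trans hK')
    exact Bid.of_kernel hses (epi_dualMap_of_liftsLoc hses hH) (hGa.of_iso e) (hGa.of_iso e)

end GmBidualLib
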