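import Mathlib.RingTheory.Bialgebra.MonoidAlgebra
import Mathlib.RingTheory.TensorProduct.Free
import Mathlib.LinearAlgebra.TensorProduct.Basis
import Mathlib.RingTheory.Localization.Away.Basic

/-!
# Multiplicative elements of a group algebra over a ring are locally monomials
-/

set_option autoImplicit false
universe u

open scoped TensorProduct

noncomputable section

namespace GmBidualLib

open scoped Classical

variable {k : Type u} [Field k] {C : Type u} [CommRing C] [Algebra k C] {Λ : Type u} [CommGroup Λ]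

/-- The coefficient at a monomial. -/
def coef (m : Λ) : C ⊗[k] MonoidAlgebra k Λ →ₗ[k] C :=
  (Finsupp.lapply m).comp (TensorProduct.equivFinsuppOfBasisRight (MonoidAlgebra.basis Λ k)).toLinearMap

theorem coef_tmul (m n : Λ) (c : C) :
    coef m (c ⊗ₜ[k] MonoidAlgebra.single n (1 : k)) = if n = m then c else 0 := by
  show TensorProduct.equivFinsuppOfBasisRight (MonoidAlgebra.basis Λ k) (c ⊗ₜ[k] MonoidAlgebra.single n (1 : k)) m = _
  rw [TensorProduct.equivFinsuppOfBasisRight_apply_tmul_apply]
  have e : (MonoidAlgebra.basis Λ k).repr (MonoidAlgebra.single n (1 : k)) m = if n = m then 1 else 0 := by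
    rw [← MonoidAlgebra.basis_apply, Module.Basis.repr_self, Finsupp.single_apply]
  rw [e, ite_smul, one_smul, zero_smul]

theorem exists_repr (u : C ⊗[k] MonoidAlgebra k Λ) :
    ∃ s : Finset Λ, u = ∑ m ∈ s, coef m u ⊗ₜ[k] MonoidAlgebra.single m (1 : k) := by
  classical
  let E := TensorProduct.equivFinsuppOfBasisRight (M := C) (MonoidAlgebra.basis Λ k)
  refine ⟨(E u).support, ?_⟩
  conv_lhs => rw [← E.symm_apply_apply u, TensorProduct.equivFinsuppOfBasisRight_symm_apply]
  simp only [Finsupp.sum, MonoidAlgebra.basis_apply]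
  rfl

/-- Elements with `u(xy) = u(x)u(y)` and `u(1) = 1` are monomials after localisation. -/
theorem exists_monomial (u : C ⊗[k] MonoidAlgebra k Λ)
    (hmul : Algebra.TensorProduct.map (AlgHom.id k C) (Bialgebra.comulAlgHom k (MonoidAlgebra k Λ)) u =
      Algebra.TensorProduct.map (AlgHom.id k C) Algebra.TensorProduct.includeLeft u *
        Algebra.TensorProduct.map (AlgHom.id k C) Algebra.TensorProduct.includeRight u)
    (hone : Algebra.TensorProduct.map (AlgHom.id k C) (Bialgebra.counitAlgHom k (MonoidAlgebra k Λ)) u = 1) :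
    ∃ (s : Finset Λ) (c : Λ → C), Ideal.span (c '' ↑s) = ⊤ ∧ ∀ m ∈ s, ∀ (D : Type u) [CommRing D] [Algebra k D]
      (φ : C →ₐ[k] D), IsUnit (φ (c m)) →
        Algebra.TensorProduct.map φ (AlgHom.id k (MonoidAlgebra k Λ)) u = 1 ⊗ₜ MonoidAlgebra.single m 1 := by
  classical
  obtain ⟨s, hs⟩ := exists_repr u
  set c := fun m => coef m u with hc
  change u = ∑ m ∈ s, c m ⊗ₜ[k] MonoidAlgebra.single m (1 : k) at hs
  clear_value c
  rw [hs] at hmul hone
  -- coefficients at pairs
  let P : Λ → Λ → C ⊗[k] (MonoidAlgebra k Λ ⊗[k] MonoidAlgebra k Λ) →ₗ[k] C := fun i j =>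
    (coef i).comp ((LinearMap.lTensor C ((TensorProduct.rid k (MonoidAlgebra k Λ)).toLinearMap ∘ₗ
      LinearMap.lTensor (MonoidAlgebra k Λ) ((MonoidAlgebra.basis Λ k).coord j))))
  have hP : ∀ i j a b d, P i j (d ⊗ₜ[k] (MonoidAlgebra.single a (1 : k) ⊗ₜ[k] MonoidAlgebra.single b 1)) =
      if a = i then if b = j then d else 0 else 0 := fun i j a b d => by
    have e : (MonoidAlgebra.basis Λ k).coord j (MonoidAlgebra.single b (1 : k)) = if b = j then 1 else 0 := by
      rw [← MonoidAlgebra.basis_apply, Module.Basis.coord_apply, Module.Basis.repr_self, Finsupp.single_apply]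
    show coef i (d ⊗ₜ[k] ((MonoidAlgebra.basis Λ k).coord j (MonoidAlgebra.single b (1 : k)) •
      MonoidAlgebra.single a (1 : k))) = _
    rw [e]
    by_cases h : b = j
    · simp only [if_pos h, one_smul, coef_tmul]
    · simp only [if_neg h, zero_smul, TensorProduct.tmul_zero, map_zero, ite_self]
  have hprod : ∀ i ∈ s, ∀ j ∈ s, c i * c j = if i = j then c i else 0 := fun i hi j hj => by
    have h := congrArg (P i j) hmul
    simp only [map_sum, Finset.sum_mul, Finset.mul_sum, Algebra.TensorProduct.map_tmul, AlgHom.id_apply,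
      Bialgebra.comulAlgHom_apply, Algebra.TensorProduct.includeLeft_apply, Algebra.TensorProduct.includeRight_apply,
      Algebra.TensorProduct.tmul_mul_tmul, mul_one, one_mul] at h
    simp only [(MonoidAlgebra.isGroupLikeElem_single_one (R := k) (A := k) _).comul_eq_tmul_self, hP] at h
    simp only [Finset.sum_ite_eq', hi, hj, if_true] at h
    exact h.symm
  have hsum : ∑ m ∈ s, c m = 1 := by
    have h := congrArg (Algebra.TensorProduct.rid k k C) hone
    simp only [map_sum, Algebra.TensorProduct.map_tmul, AlgHom.id_apply, Bialgebra.counitAlgHom_apply,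
      (MonoidAlgebra.isGroupLikeElem_single_one (R := k) (A := k) _).counit_eq_one, map_one] at h
    simpa using h
  refine ⟨s, c, (Ideal.eq_top_iff_one _).2 (hsum ▸ Submodule.sum_mem _ fun m hm => Ideal.subset_span ⟨m, hm, rfl⟩),
    fun m hm D _ _ φ hu => ?_⟩
  have hz : ∀ j ∈ s, j ≠ m → φ (c j) = 0 := fun j hj hne => by
    refine hu.mul_right_eq_zero.1 ?_
    rw [← map_mul, hprod m hm j hj, if_neg hne.symm, map_zero]
  have h1 : φ (c m) = 1 := hu.mul_eq_left.1 (by rw [← map_mul, hprod m hm m hm, if_pos rfl])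
  rw [hs, map_sum, Finset.sum_eq_single_of_mem m hm fun j hj hne => by
    rw [Algebra.TensorProduct.map_tmul, hz j hj hne, TensorProduct.zero_tmul], Algebra.TensorProduct.map_tmul, h1,
    AlgHom.id_apply]

end GmBidualLib
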