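import Groth.Agent.GmVanishLib.GaPrim
import Mathlib.RingTheory.HopfAlgebra.Quotient
import Mathlib.Algebra.Polynomial.Taylor
import Mathlib.Algebra.Polynomial.HasseDeriv

/-!
# Hopf ideals of the coordinate ring of the additive group are generated by additive polynomials
-/

set_option autoImplicit false
set_option backward.isDefEq.respectTransparency false
set_option linter.style.haveILetI false
set_option maxHeartbeats 1000000
universe u

open CategoryTheory CategoryTheory.Limits MonoidalCategory CartesianMonoidalCategory AlgebraicGeometry Opposite CoactBr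
open scoped MonObj TensorProduct

attribute [local instance] CoactBr.braidedAlgSpecOf
attribute [-instance] CategoryTheory.Hom.commGroup

noncomputable section

namespace GmBidualLib

open Polynomial (aeval)

variable {k : Type u} [Field k]

section taylor

variable {T : Type u} [CommRing T] [Algebra k T]

/-- The Taylor formula. -/
theorem aeval_add (P : Polynomial k) (a b : T) :
    aeval (a + b) P = ∑ j ∈ Finset.range (P.natDegree + 1), aeval a (Polynomial.hasseDeriv j P) * b ^ j := by
  have hd : ((P.map (algebraMap k T)).taylor a).natDegree < P.natDegree + 1 := by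
    rw [Polynomial.natDegree_taylor]
    exact Nat.lt_succ_of_le Polynomial.natDegree_map_le
  have hm : ∀ j, (Polynomial.hasseDeriv j P).map (algebraMap k T) =
      Polynomial.hasseDeriv j (P.map (algebraMap k T)) := fun j => by
    ext i
    simp [Polynomial.hasseDeriv_coeff]
  rw [Polynomial.aeval_def, Polynomial.eval₂_eq_eval_map, add_comm, ← Polynomial.taylor_eval,
    Polynomial.eval_eq_sum_range' hd]
  refine Finset.sum_congr rfl fun j _ => ?_
  rw [Polynomial.taylor_coeff, ← hm, ← Polynomial.eval₂_eq_eval_map, ← Polynomial.aeval_def]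

end taylor

section coord

variable {H : Type u} [CommRing H] [HopfAlgebra k H]

/-- The coordinate of the additive group. -/
theorem exists_coord (v : sp k H ≅ Red.Ga (Spec (CommRingCat.of k))) (hv : IsMonHom v.hom) :
    ∃ x : H, CoalgebraStruct.comul (R := k) x = x ⊗ₜ[k] (1 : H) + (1 : H) ⊗ₜ[k] x ∧
      Function.Bijective (aeval (R := k) x) := by
  haveI := hv
  let x := (Scheme.ΓSpecIso (CommRingCat.of H)).hom (Red.gaFn v.hom)
  have hx : Red.gaFn v.hom = (Scheme.ΓSpecIso (CommRingCat.of H)).inv x :=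
    ((Scheme.ΓSpecIso (CommRingCat.of H)).hom_inv_id_apply _).symm
  have hinj : ∀ (C : Type u) [CommRing C], Function.Injective (Scheme.ΓSpecIso (CommRingCat.of C)).inv.hom :=
    fun C _ => (Scheme.ΓSpecIso (CommRingCat.of C)).commRingCatIsoToRingEquiv.symm.injective
  refine ⟨x, ?_, ?_⟩
  · have hm : pt (Bialgebra.comulAlgHom k H) =
        pt (Algebra.TensorProduct.includeLeft : H →ₐ[k] H ⊗[k] H) * pt Algebra.TensorProduct.includeRight := by
      rw [Groth.Agent.DiagRep.pt_mul_conv, ← Groth.Agent.DiagRep.toConv_comul]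
    have h1 : Red.gaFn (pt (Bialgebra.comulAlgHom k H) ≫ v.hom) =
        Red.gaFn (pt (Algebra.TensorProduct.includeLeft : H →ₐ[k] H ⊗[k] H) ≫ v.hom) +
          Red.gaFn (pt (Algebra.TensorProduct.includeRight : H →ₐ[k] H ⊗[k] H) ≫ v.hom) := by
      rw [hm, MonObj.mul_comp, Groth.Agent.GaPts.gaFn_mul]
    rw [GmVanishLib.gaFn_pt_comp _ x hx, GmVanishLib.gaFn_pt_comp _ x hx, GmVanishLib.gaFn_pt_comp _ x hx] at h1
    exact hinj (H ⊗[k] H) (h1.trans (map_add (Scheme.ΓSpecIso (CommRingCat.of (H ⊗[k] H))).inv.hom _ _).symm)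
  · let f : sp k (Polynomial k) ⟶ Red.Ga (Spec (CommRingCat.of k)) :=
      Groth.Agent.GaPts.ptOf ((Scheme.ΓSpecIso (CommRingCat.of (Polynomial k))).inv Polynomial.X)
    have hf : Red.gaFn f = (Scheme.ΓSpecIso (CommRingCat.of (Polynomial k))).inv Polynomial.X :=
      Groth.Agent.GaPts.gaFn_ptOf _
    obtain ⟨ψ, hψ⟩ := Groth.Agent.DiagRep.exists_pt (f ≫ v.inv)
    have hψx : ψ x = Polynomial.X := by
      have h1 := GmVanishLib.gaFn_pt_comp _ x hx ψ
      rw [← hψ, Category.assoc, Iso.inv_hom_id, Category.comp_id, hf] at h1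
      exact (hinj _ h1).symm
    have h2 : (aeval (R := k) x).comp ψ = AlgHom.id k H := by
      refine pt_injective ?_
      rw [pt_comp, ← hψ, pt_id]
      have h3 : pt (aeval (R := k) x) ≫ f = v.hom := Groth.Agent.GaPts.gaFn_injective (by
        show Red.gaFn _ = Red.gaFn _
        rw [GmVanishLib.gaFn_pt_comp _ _ hf, hx, Polynomial.aeval_X])
      rw [← Category.assoc, h3, Iso.hom_inv_id]
    have h4 : ψ.comp (aeval (R := k) x) = AlgHom.id k (Polynomial k) := Polynomial.algHom_ext (by simp [hψx])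
    exact ⟨Function.LeftInverse.injective (g := ψ) fun g => AlgHom.congr_fun h4 g,
      fun h => ⟨ψ h, AlgHom.congr_fun h2 h⟩⟩

theorem counit_coord {x : H} (hx : CoalgebraStruct.comul (R := k) x = x ⊗ₜ[k] (1 : H) + (1 : H) ⊗ₜ[k] x) :
    Coalgebra.counit (R := k) x = 0 := by
  have h := Coalgebra.rTensor_counit_comul (R := k) x
  rw [hx, map_add, LinearMap.rTensor_tmul, LinearMap.rTensor_tmul, Bialgebra.counit_one, add_eq_right] at h
  have h2 := congrArg (fun t => Coalgebra.counit (R := k) (TensorProduct.lid k H t)) h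
  simpa using h2

/-- Proper quotients by Hopf ideals are kernels of additive polynomials. -/
theorem exists_additive (x : H) (hx : CoalgebraStruct.comul (R := k) x = x ⊗ₜ[k] (1 : H) + (1 : H) ⊗ₜ[k] x)
    (hb : Function.Bijective (aeval (R := k) x)) (K : Ideal H) [K.IsHopfIdeal k] (hK : K ≠ ⊥) :
    ∃ φ : H →ₐc[k] H, Function.Injective φ ∧
      K = Ideal.map (φ : H →+* H) (RingHom.ker (Bialgebra.counitAlgHom k H)) := by
  classical
  let E := AlgEquiv.ofBijective (aeval (R := k) x) hb
  let J : Ideal (Polynomial k) := K.comap (aeval (R := k) x)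
  obtain ⟨P₀, hP₀⟩ : ∃ P₀, J = Ideal.span {P₀} := ⟨_, (Ideal.span_singleton_generator J).symm⟩
  have hP₀0 : P₀ ≠ 0 := fun h => hK (by
    rw [eq_bot_iff]
    intro y hy
    obtain ⟨g, rfl⟩ := hb.2 y
    have hg : g ∈ J := hy
    rw [hP₀, h, Ideal.span_singleton_eq_bot.2 rfl] at hg
    rw [show g = 0 from hg, map_zero]
    exact zero_mem _)
  set P := P₀ * Polynomial.C P₀.leadingCoeff⁻¹ with hPdef
  have hP : P.Monic := Polynomial.monic_mul_leadingCoeff_inv hP₀0
  have hJ : J = Ideal.span {P} := by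
    rw [hP₀]
    refine (Ideal.span_singleton_mul_right_unit ?_ P₀).symm
    exact Polynomial.isUnit_C.2 (isUnit_iff_ne_zero.2 (inv_ne_zero (Polynomial.leadingCoeff_ne_zero.2 hP₀0)))
  let q := Bialgebra.Quotient.mkBialgHom (R := k) K
  have hq : ∀ g, q (aeval x g) = 0 ↔ P ∣ g := fun g => by
    rw [← Ideal.mem_span_singleton, ← hJ]
    exact Ideal.Quotient.eq_zero_iff_mem
  set r := q x with hr
  have haev : ∀ g, aeval r g = q (aeval x g) := fun g => Polynomial.aeval_algHom_apply (q : H →ₐ[k] H ⧸ K) x g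
  have hd : 0 < P.natDegree := Nat.pos_of_ne_zero fun h0 => by
    have h1 : q (aeval x (1 : Polynomial k)) = 0 := (hq 1).2 (by rw [(hP.natDegree_eq_zero).1 h0])
    rw [map_one, map_one] at h1
    have := congrArg (Coalgebra.counit (R := k)) h1
    rw [Bialgebra.counit_one, map_zero] at this
    exact one_ne_zero this
  set d := P.natDegree with hddef
  have hli : LinearIndependent k (fun j : Fin d => r ^ (j : ℕ)) := by
    rw [Fintype.linearIndependent_iff]
    intro c hc j
    let g : Polynomial k := ∑ i : Fin d, Polynomial.monomial (i : ℕ) (c i)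
    have hg : q (aeval x g) = 0 := by
      rw [← haev, ← hc, map_sum]
      exact Finset.sum_congr rfl fun i _ => by rw [Polynomial.aeval_monomial, Algebra.smul_def]
    have hg' : g.degree < P.degree := by
      rw [Polynomial.degree_eq_natDegree hP.ne_zero]
      refine (Polynomial.degree_sum_le _ _).trans_lt ((Finset.sup_lt_iff (WithBot.bot_lt_coe _)).2 fun i _ => ?_)
      exact (Polynomial.degree_monomial_le _ _).trans_lt (Nat.cast_lt.2 i.2)
    have h0 : g = 0 := Polynomial.eq_zero_of_dvd_of_degree_lt ((hq g).1 hg) hg'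
    have := congrArg (fun g => Polynomial.coeff g (j : ℕ)) h0
    simp only [g, Polynomial.finsetSum_coeff, Polynomial.coeff_monomial, Polynomial.coeff_zero] at this
    rw [Finset.sum_eq_single j (fun i _ hij => if_neg fun h => hij (Fin.ext h)) (by simp)] at this
    simpa using this
  have hcomul : CoalgebraStruct.comul (R := k) r = r ⊗ₜ[k] (1 : H ⧸ K) + (1 : H ⧸ K) ⊗ₜ[k] r := by
    rw [hr, ← CoalgHomClass.map_comp_comul_apply q, hx, map_add, TensorProduct.map_tmul, TensorProduct.map_tmul]
    simp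
  have hPr : aeval r P = 0 := by rw [haev, hq]
  have hsum : ∑ j ∈ Finset.range d,
      (aeval r (Polynomial.hasseDeriv j P) - algebraMap k _ (P.coeff j)) ⊗ₜ[k] (r ^ j) =
        (0 : (H ⧸ K) ⊗[k] (H ⧸ K)) := by
    have h1 : aeval (r ⊗ₜ[k] (1 : H ⧸ K) + (1 : H ⧸ K) ⊗ₜ[k] r) P = 0 := by
      rw [← hcomul, ← Bialgebra.comulAlgHom_apply, Polynomial.aeval_algHom_apply, hPr, map_zero]
    have hterm : ∀ (g : Polynomial k) (j : ℕ),
        aeval (r ⊗ₜ[k] (1 : H ⧸ K)) g * ((1 : H ⧸ K) ⊗ₜ[k] r) ^ j = aeval r g ⊗ₜ[k] (r ^ j) := fun g j => by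
      rw [show r ⊗ₜ[k] (1 : H ⧸ K) = (Algebra.TensorProduct.includeLeft : (H ⧸ K) →ₐ[k] _) r from rfl,
        Polynomial.aeval_algHom_apply, Algebra.TensorProduct.includeLeft_apply, Algebra.TensorProduct.tmul_pow,
        Algebra.TensorProduct.tmul_mul_tmul, one_pow, mul_one, one_mul]
    rw [aeval_add, Finset.sum_range_succ] at h1
    simp only [hterm] at h1
    have hlc : Polynomial.hasseDeriv d P = 1 := by
      ext i
      rw [Polynomial.hasseDeriv_coeff, Polynomial.coeff_one]
      rcases i with _ | i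
      · simp [hddef, hP.coeff_natDegree]
      · rw [if_neg (Nat.succ_ne_zero i), Polynomial.coeff_eq_zero_of_natDegree_lt (by omega), mul_zero]
    rw [hlc, map_one] at h1
    have hpow : r ^ d = - ∑ j ∈ Finset.range d, P.coeff j • r ^ j := by
      rw [eq_neg_iff_add_eq_zero, add_comm, ← hPr, Polynomial.aeval_eq_sum_range, Finset.sum_range_succ,
        hP.coeff_natDegree, one_smul]
    simp only [← hddef] at h1
    rw [hpow, TensorProduct.tmul_neg, TensorProduct.tmul_sum, ← sub_eq_add_neg] at h1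
    rw [← h1, ← Finset.sum_sub_distrib]
    refine Finset.sum_congr rfl fun j _ => ?_
    rw [TensorProduct.sub_tmul, Algebra.algebraMap_eq_smul_one, TensorProduct.smul_tmul]
  have hcoef : ∀ j < d, aeval r (Polynomial.hasseDeriv j P) = algebraMap k _ (P.coeff j) := fun j hj => by
    obtain ⟨f, hf⟩ := LinearMap.exists_extend ((Finsupp.lapply (⟨j, hj⟩ : Fin d)).comp hli.repr)
    have hfr : ∀ i : Fin d, f (r ^ (i : ℕ)) = if i = ⟨j, hj⟩ then 1 else 0 := fun i => by
      have h := LinearMap.congr_fun hf ⟨r ^ (i : ℕ), Submodule.subset_span ⟨i, rfl⟩⟩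
      refine h.trans ?_
      simp [hli.repr_eq_single i ⟨r ^ (i : ℕ), Submodule.subset_span ⟨i, rfl⟩⟩ rfl, Finsupp.single_apply]
    have h := congrArg (fun t => TensorProduct.rid k (H ⧸ K) (f.lTensor (H ⧸ K) t)) hsum
    have hval : ∀ a b : H ⧸ K, TensorProduct.rid k (H ⧸ K) (f.lTensor (H ⧸ K) (a ⊗ₜ[k] b)) = f b • a :=
      fun a b => rfl
    simp only [map_sum, hval, map_zero] at h
    rw [Finset.sum_eq_single j (fun i hi hij => ?_) (fun h' => absurd (Finset.mem_range.2 hj) h')] at h
    · rw [show f (r ^ j) = 1 by rw [show r ^ j = r ^ ((⟨j, hj⟩ : Fin d) : ℕ) from rfl, hfr, if_pos rfl], one_smul] at h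
      exact sub_eq_zero.1 h
    · rw [show f (r ^ i) = 0 by
        rw [show r ^ i = r ^ ((⟨i, Finset.mem_range.1 hi⟩ : Fin d) : ℕ) from rfl, hfr, if_neg]
        exact fun h' => hij (congrArg Fin.val h'), zero_smul]
  haveI : Nontrivial (H ⧸ K) := ⟨⟨1, 0, fun h => by
    have := congrArg (Coalgebra.counit (R := k)) h
    rw [Bialgebra.counit_one, map_zero] at this
    exact one_ne_zero this⟩⟩
  have hc0 : P.coeff 0 = 0 := by
    have h := hcoef 0 hd
    rw [Polynomial.hasseDeriv_zero', hPr] at h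
    exact (map_eq_zero_iff _ (RingHom.injective (algebraMap k (H ⧸ K)) )).1 h.symm
  have hadd : ∀ j, 0 < j → Polynomial.hasseDeriv j P = Polynomial.C (P.coeff j) := fun j hj => by
    rcases lt_trichotomy j d with hjd | hjd | hjd
    · have h1 : q (aeval x (Polynomial.hasseDeriv j P - Polynomial.C (P.coeff j))) = 0 := by
        rw [← haev, map_sub, Polynomial.aeval_C, hcoef j hjd, sub_self]
      refine sub_eq_zero.1 (Polynomial.eq_zero_of_dvd_of_natDegree_lt ((hq _).1 h1) ?_)
      refine (Polynomial.natDegree_sub_le _ _).trans_lt (max_lt ?_ ?_)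
      · exact (Polynomial.natDegree_hasseDeriv_le P j).trans_lt (by omega)
      · rw [Polynomial.natDegree_C]; exact hd
    · subst hjd
      rw [hddef, hP.coeff_natDegree, map_one]
      ext i
      rw [Polynomial.hasseDeriv_coeff, Polynomial.coeff_one]
      rcases i with _ | i
      · simp [hP.coeff_natDegree]
      · rw [if_neg (Nat.succ_ne_zero i), Polynomial.coeff_eq_zero_of_natDegree_lt (by omega), mul_zero]
    · rw [Polynomial.hasseDeriv_eq_zero_of_lt_natDegree _ _ hjd, Polynomial.coeff_eq_zero_of_natDegree_lt hjd, map_zero]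
  let y := aeval x P
  have hy : CoalgebraStruct.comul (R := k) y = y ⊗ₜ[k] (1 : H) + (1 : H) ⊗ₜ[k] y := by
    have hterm : ∀ (g : Polynomial k) (j : ℕ),
        aeval (x ⊗ₜ[k] (1 : H)) g * ((1 : H) ⊗ₜ[k] x) ^ j = aeval x g ⊗ₜ[k] (x ^ j) := fun g j => by
      rw [show x ⊗ₜ[k] (1 : H) = (Algebra.TensorProduct.includeLeft : H →ₐ[k] _) x from rfl,
        Polynomial.aeval_algHom_apply, Algebra.TensorProduct.includeLeft_apply, Algebra.TensorProduct.tmul_pow,
        Algebra.TensorProduct.tmul_mul_tmul, one_pow, mul_one, one_mul]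
    rw [show CoalgebraStruct.comul (R := k) y = aeval (x ⊗ₜ[k] (1 : H) + (1 : H) ⊗ₜ[k] x) P by
      rw [← hx, ← Bialgebra.comulAlgHom_apply, ← Bialgebra.comulAlgHom_apply, Polynomial.aeval_algHom_apply],
      aeval_add]
    simp only [hterm]
    rw [Finset.sum_range_succ']
    simp only [Polynomial.hasseDeriv_zero', pow_zero]
    rw [show y = aeval x P from rfl]
    refine (add_comm _ _).trans (congrArg (aeval x P ⊗ₜ[k] (1 : H) + ·) ?_)
    rw [Polynomial.aeval_eq_sum_range, TensorProduct.tmul_sum, Finset.sum_range_succ',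
      hc0, zero_smul, TensorProduct.tmul_zero, add_zero]
    refine Finset.sum_congr rfl fun j _ => ?_
    rw [hadd (j + 1) (Nat.succ_pos j), Polynomial.aeval_C, Algebra.algebraMap_eq_smul_one, TensorProduct.smul_tmul]
  let φ₀ : H →ₐ[k] H := (aeval y).comp E.symm.toAlgHom
  have hφ : ∀ g, φ₀ (aeval x g) = aeval y g := fun g => congrArg (aeval y) (E.symm_apply_apply g)
  have hφx : φ₀ x = y := by
    have := hφ Polynomial.X
    rwa [Polynomial.aeval_X, Polynomial.aeval_X] at this
  have hext : ∀ {B : Type u} [CommRing B] [Algebra k B] (f g : H →ₐ[k] B), f x = g x → f = g := fun f g h => by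
    refine AlgHom.ext fun z => ?_
    obtain ⟨p, rfl⟩ := hb.2 z
    rw [← Polynomial.aeval_algHom_apply, ← Polynomial.aeval_algHom_apply, h]
  have hyc : Coalgebra.counit (R := k) y = 0 := counit_coord hy
  let φ : H →ₐc[k] H := BialgHom.ofAlgHom φ₀
    (hext _ _ (by
      show Coalgebra.counit (R := k) (φ₀ x) = Coalgebra.counit (R := k) x
      rw [hφx, hyc, counit_coord hx]))
    (hext _ _ (by
      show Algebra.TensorProduct.map φ₀ φ₀ (CoalgebraStruct.comul (R := k) x) = CoalgebraStruct.comul (R := k) (φ₀ x)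
      rw [hφx, hx, hy, map_add, Algebra.TensorProduct.map_tmul, Algebra.TensorProduct.map_tmul, hφx, map_one]))
  refine ⟨φ, fun a b hab => ?_, ?_⟩
  · obtain ⟨a, rfl⟩ := hb.2 a
    obtain ⟨b, rfl⟩ := hb.2 b
    change φ₀ (aeval x a) = φ₀ (aeval x b) at hab
    rw [hφ, hφ, show y = aeval x P from rfl, ← Polynomial.aeval_comp, ← Polynomial.aeval_comp] at hab
    have h : (a - b).comp P = 0 := by rw [Polynomial.sub_comp, sub_eq_zero]; exact hb.1 hab
    rcases Polynomial.comp_eq_zero_iff.1 h with h | ⟨-, h⟩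
    · exact congrArg _ (sub_eq_zero.1 h)
    · exfalso
      have h2 := congrArg Polynomial.natDegree h
      rw [Polynomial.natDegree_C, ← hddef] at h2
      omega
  · have hKspan : K = Ideal.span {y} := by
      refine le_antisymm (fun z hz => ?_) ((Ideal.span_singleton_le_iff_mem K).2 ?_)
      · obtain ⟨g, rfl⟩ := hb.2 z
        obtain ⟨c, rfl⟩ := (hq g).1 (Ideal.Quotient.eq_zero_iff_mem.2 hz)
        rw [map_mul]
        exact Ideal.mul_mem_right _ _ (Ideal.mem_span_singleton_self y)
      · exact Ideal.Quotient.eq_zero_iff_mem.1 ((hq P).2 dvd_rfl)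
    rw [hKspan]
    refine le_antisymm ((Ideal.span_singleton_le_iff_mem _).2 ?_) (Ideal.map_le_iff_le_comap.2 fun z hz => ?_)
    · rw [← hφx]
      exact Ideal.mem_map_of_mem (φ : H →+* H) (RingHom.mem_ker.2 (counit_coord hx))
    · obtain ⟨g, rfl⟩ := hb.2 z
      have hg0 : g.coeff 0 = 0 := by
        have h : Bialgebra.counitAlgHom k H (aeval x g) = 0 := hz
        rw [← Polynomial.aeval_algHom_apply, Bialgebra.counitAlgHom_apply, counit_coord hx] at h
        simpa [Polynomial.coeff_zero_eq_aeval_zero] using h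
      obtain ⟨g', rfl⟩ := Polynomial.X_dvd_iff.2 hg0
      show φ₀ (aeval x (Polynomial.X * g')) ∈ Ideal.span {y}
      rw [hφ, map_mul, Polynomial.aeval_X]
      exact Ideal.mul_mem_right _ _ (Ideal.mem_span_singleton_self y)

end coord

end GmBidualLib
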