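import Groth.Agent.GmVanishLib.Seq
import Groth.Agent.GaBidualLib.Sheaf
import Groth.Agent.AntiAffLib.AffineQuot
import Groth.Agent.GmCharLib.Descend

/-!
# Points of affine objects over a field
-/

set_option autoImplicit false
set_option backward.isDefEq.respectTransparency false
set_option linter.style.haveILetI false
set_option maxHeartbeats 1000000
universe u

open CategoryTheory CategoryTheory.Limits MonoidalCategory CartesianMonoidalCategory AlgebraicGeometry Opposite CoactBr
open scoped MonObj TensorProduct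

attribute [local instance] CoactBr.braidedAlgSpecOf
attribute [-instance] CategoryTheory.Hom.commGroup

noncomputable section

namespace GmBidualLib

open GmVanishLib (fns fns_comp_pt fns_injective)

variable {k : Type u} [Field k]

/-- The structure map of an object over the field on functions. -/
def strMap (Z : Over (Spec (CommRingCat.of k))) : k →+* Γ(Z.left, ⊤) :=
  ((Scheme.ΓSpecIso (CommRingCat.of k)).inv ≫ Z.hom.appTop).hom

theorem fns_algebraMap {A : Type u} [CommRing A] [Algebra k A] {Z : Over (Spec (CommRingCat.of k))} (y : Z ⟶ sp k A)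
    (r : k) : fns y (algebraMap k A r) = strMap Z r := by
  have h := Scheme.ΓSpecIso_inv_naturality (CommRingCat.ofHom (algebraMap k A))
  show ((Scheme.ΓSpecIso (CommRingCat.of A)).inv ≫ y.left.appTop) (algebraMap k A r) =
    ((Scheme.ΓSpecIso (CommRingCat.of k)).inv ≫ Z.hom.appTop) r
  rw [← Over.w y]
  show ((CommRingCat.ofHom (algebraMap k A) ≫ (Scheme.ΓSpecIso (CommRingCat.of A)).inv) ≫ y.left.appTop) r = _
  rw [h]
  rfl

/-- A map of rings compatible with the structure map gives a point. -/
theorem exists_point {A : Type u} [CommRing A] [Algebra k A] {Z : Over (Spec (CommRingCat.of k))}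
    (h : A →+* Γ(Z.left, ⊤)) (hh : ∀ r, h (algebraMap k A r) = strMap Z r) :
    ∃ y : Z ⟶ sp k A, fns y = h := by
  let l : Z.left ⟶ Spec (CommRingCat.of A) := Z.left.toSpecΓ ≫ Spec.map (CommRingCat.ofHom h)
  have hl : l ≫ (sp k A).hom = Z.hom := by
    show (Z.left.toSpecΓ ≫ Spec.map (CommRingCat.ofHom h)) ≫ Spec.map (CommRingCat.ofHom (algebraMap k A)) = Z.hom
    rw [Category.assoc, ← Spec.map_comp,
      show CommRingCat.ofHom (algebraMap k A) ≫ CommRingCat.ofHom h = CommRingCat.ofHom (strMap Z) from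
        CommRingCat.hom_ext (RingHom.ext hh)]
    exact (AdeqModLib.eq_toSpecΓ (R := CommRingCat.of k) Z.hom).symm
  refine ⟨Over.homMk l hl, ?_⟩
  have h' : Z.left.toSpecΓ ≫ Spec.map (CommRingCat.ofHom (fns (Over.homMk l hl : Z ⟶ sp k A))) =
      Z.left.toSpecΓ ≫ Spec.map (CommRingCat.ofHom h) := (GmVanishLib.left_eq_fns _).symm
  exact congrArg CommRingCat.Hom.hom (AdeqModLib.specHom_injective _ _ h')

/-- A pair of points gives a point of the tensor product. -/
theorem exists_pair {C Q : Type u} [CommRing C] [CommRing Q] [Algebra k C] [Algebra k Q]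
    {Z : Over (Spec (CommRingCat.of k))} (z : Z ⟶ sp k C) (x : Z ⟶ sp k Q) :
    ∃ w : Z ⟶ sp k (C ⊗[k] Q), w ≫ pt (Algebra.TensorProduct.includeLeft : C →ₐ[k] C ⊗[k] Q) = z ∧
      w ≫ pt (Algebra.TensorProduct.includeRight : Q →ₐ[k] C ⊗[k] Q) = x := by
  letI : Algebra k Γ(Z.left, ⊤) := (strMap Z).toAlgebra
  let α : C →ₐ[k] Γ(Z.left, ⊤) := { fns z with commutes' := fun r => fns_algebraMap z r }
  let β : Q →ₐ[k] Γ(Z.left, ⊤) := { fns x with commutes' := fun r => fns_algebraMap x r }
  let γ' := Algebra.TensorProduct.lift α β fun _ _ => Commute.all _ _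
  obtain ⟨w, hw⟩ := exists_point (Z := Z) γ'.toRingHom fun r => γ'.commutes r
  refine ⟨w, fns_injective (RingHom.ext fun c => ?_), fns_injective (RingHom.ext fun c => ?_)⟩
  · rw [fns_comp_pt, hw]
    show γ' (c ⊗ₜ[k] 1) = fns z c
    simp [γ', α, β]
  · rw [fns_comp_pt, hw]
    show γ' (1 ⊗ₜ[k] c) = fns x c
    simp [γ', α, β]

/-- An object over the field is covered by affine objects. -/
theorem exists_sp_cover (Z : Over (Spec (CommRingCat.of k))) :
    ∃ (I : Type u) (C : I → Type u) (_ : ∀ i, CommRing (C i)) (_ : ∀ i, Algebra k (C i)) (e : ∀ i, sp k (C i) ⟶ Z),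
      Sieve.ofArrows (fun i => sp k (C i)) e ∈ QuotSh.J Scheme.fppfPrecoverage (Spec (CommRingCat.of k)) Z := by
  choose φ hφ using fun i : Z.left.affineOpenCover.I₀ => Spec.map_surjective (Z.left.affineOpenCover.f i ≫ Z.hom)
  let C : Z.left.affineOpenCover.I₀ → Type u := fun i => Z.left.affineOpenCover.X i
  letI alg : ∀ i, Algebra k (C i) := fun i => (φ i).hom.toAlgebra
  refine ⟨_, C, fun i => inferInstance, alg, fun i => Over.homMk (Z.left.affineOpenCover.f i) (hφ i).symm, ?_⟩
  refine AdeqModLib.ofArrows_mem _ ((Scheme.ofArrows_mem_precoverage_iff _).2 ⟨fun y => ?_, fun i => ?_⟩)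
  · obtain ⟨j, w, hw⟩ := Z.left.affineOpenCover.openCover.exists_eq y
    exact ⟨j, w, hw⟩
  · change (@Flat ⊓ @LocallyOfFinitePresentation : MorphismProperty Scheme.{u}) (Z.left.affineOpenCover.f i)
    exact ⟨inferInstanceAs (Flat (Z.left.affineOpenCover.openCover.f i)),
      inferInstanceAs (LocallyOfFinitePresentation (Z.left.affineOpenCover.openCover.f i))⟩

end GmBidualLib
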