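import Groth.Agent.GmBidualLib.Basic
import Groth.Agent.GmBidualLib.Points
import Groth.Agent.GmBidualLib.Idem
import Mathlib.RingTheory.HopfAlgebra.MonoidAlgebra

/-!
# Double duality for split diagonalisable groups over a field
-/

set_option autoImplicit false
set_option backward.isDefEq.respectTransparency false
set_option linter.style.haveILetI false
set_option maxHeartbeats 1600000
universe u

open CategoryTheory CategoryTheory.Limits MonoidalCategory CartesianMonoidalCategory AlgebraicGeometry Opposite CoactBr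
open GmCharLib (uSec uSec_mul uSec_bijective uVal uSec_uVal map_uSec)
open GmExtLib (gSec gSec_mul gSec_bijective map_gSec)
open GmVanishLib (fns fns_comp_pt fns_injective)
open scoped MonObj TensorProduct

attribute [local instance] CoactBr.braidedAlgSpecOf
attribute [-instance] CategoryTheory.Hom.commGroup

noncomputable section

namespace GmBidualLib

variable {k : Type u} [Field k]

local notation "Jf" => QuotSh.J Scheme.fppfPrecoverage (Spec (CommRingCat.of k))
local notation "Gms" => GmExtLib.G (Spec (CommRingCat.of k))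

section groupLike

variable {Q : Type u} [CommRing Q] [HopfAlgebra k Q] [Coalgebra.IsCocomm k Q]

theorem map_uSec_point {Z : Over (Spec (CommRingCat.of k))} (y : Z ⟶ sp k Q) (v : Qˣ) :
    (Gms).obj.map y.op (uSec Q v) = gSec Z (Units.map (fns y).toMonoidHom v) :=
  (map_gSec _ _).trans (congrArg (gSec Z) (Units.ext rfl))

/-- A group-like unit is additive in the point. -/
theorem isAdd_of_groupLike (v : Qˣ) (hv : CoalgebraStruct.comul (R := k) (v : Q) = (v : Q) ⊗ₜ[k] (v : Q)) :
    GmExtLib.IsAdd Gms (uSec (k := k) Q v) := by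
  intro T x y
  obtain ⟨w, hx, hy⟩ := exists_pair x y
  have hm : pt (Algebra.TensorProduct.includeLeft : Q →ₐ[k] Q ⊗[k] Q) * pt Algebra.TensorProduct.includeRight =
      pt (Bialgebra.comulAlgHom k Q) := by
    rw [Groth.Agent.DiagRep.pt_mul_conv, ← Groth.Agent.DiagRep.toConv_comul]
  rw [← hx, ← hy, ← MonObj.comp_mul, hm, ← GmExtLib.map_map, ← GmExtLib.map_map, ← GmExtLib.map_map, map_uSec,
    map_uSec, map_uSec, ← map_add, ← uSec_mul]
  refine congrArg ((Gms).obj.map w.op) (congrArg (uSec _) (Units.ext ?_))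
  show CoalgebraStruct.comul (R := k) (v : Q) = (v : Q) ⊗ₜ[k] (1 : Q) * (1 : Q) ⊗ₜ[k] (v : Q)
  rw [hv, Algebra.TensorProduct.tmul_mul_tmul, mul_one, one_mul]

end groupLike

variable (k) (Λ : Type u) [CommGroup Λ]

/-- The unit of a monomial. -/
def mono₁ (m : Λ) : (MonoidAlgebra k Λ)ˣ := Units.map (MonoidAlgebra.of k Λ) (toUnits m)

/-- The character of a monomial. -/
def chr (m : Λ) : GmVanishLib.shf (k := k) (MonoidAlgebra k Λ) ⟶ Gms :=
  GmExtLib.homOfAdd _ (isAdd_of_groupLike (mono₁ k Λ m)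
    (MonoidAlgebra.isGroupLikeElem_single_one (R := k) (A := k) m).comul_eq_tmul_self)

variable {k Λ}

theorem chr_app (m : Λ) {Z : Over (Spec (CommRingCat.of k))} (y : Z ⟶ sp k (MonoidAlgebra k Λ)) :
    (chr k Λ m).hom.app (op Z) (GmExtLib.ptSec y) = gSec Z (Units.map (fns y).toMonoidHom (mono₁ k Λ m)) :=
  map_uSec_point y _

theorem chr_mul (m n : Λ) : chr k Λ (m * n) = chr k Λ m + chr k Λ n := by
  refine Sheaf.hom_ext (NatTrans.ext (funext fun T => AddCommGrpCat.ext fun z => ?_))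
  show (chr k Λ (m * n)).hom.app (op T.unop) (GmExtLib.ptSec z.down.toMul) =
    (chr k Λ m).hom.app (op T.unop) (GmExtLib.ptSec z.down.toMul) + (chr k Λ n).hom.app (op T.unop) (GmExtLib.ptSec z.down.toMul)
  rw [chr_app, chr_app, chr_app, ← gSec_mul, ← map_mul]
  exact congrArg (fun v => gSec T.unop (Units.map (fns z.down.toMul).toMonoidHom v))
    ((congrArg _ (map_mul toUnits m n)).trans (map_mul (Units.map (MonoidAlgebra.of k Λ)) _ _))

/-- Homomorphisms over an affine object are monomials locally. -/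
theorem exists_local_chr {C : Type u} [CommRing C] [Algebra k C]
    (ψ : CategoryTheory.Sheaf.over (GmVanishLib.shf (k := k) (MonoidAlgebra k Λ)) (sp k C) ⟶
      CategoryTheory.Sheaf.over Gms (sp k C)) :
    ∃ (I : Type u) (D : I → Type u) (_ : ∀ i, CommRing (D i)) (_ : ∀ i, Algebra k (D i)) (e : ∀ i, sp k (D i) ⟶ sp k C)
      (m : I → Λ), Sieve.ofArrows (fun i => sp k (D i)) e ∈ Jf (sp k C) ∧
      ∀ i, ((Jf).overMapPullback AddCommGrpCat.{u + 1} (e i)).map ψ =
        ((Jf).overPullback AddCommGrpCat.{u + 1} (sp k (D i))).map (chr k Λ (m i)) := by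
  let Q := MonoidAlgebra k Λ
  let ev := fun {Z : Over (Spec (CommRingCat.of k))} (z : Z ⟶ sp k C) (x : Z ⟶ sp k Q) =>
    ψ.hom.app (op (Over.mk z)) (GmExtLib.ptSec x)
  have hnat : ∀ {Z Z' : Over (Spec (CommRingCat.of k))} (φ : Z' ⟶ Z) (z : Z ⟶ sp k C) (x : Z ⟶ sp k Q),
      (Gms).obj.map φ.op (ev z x) = ev (φ ≫ z) (φ ≫ x) := fun φ z x =>
    (NatTrans.naturality_apply ψ.hom (Over.homMk φ rfl : Over.mk (φ ≫ z) ⟶ Over.mk z).op (GmExtLib.ptSec x)).symm
  have hadd : ∀ {Z : Over (Spec (CommRingCat.of k))} (z : Z ⟶ sp k C) (x y : Z ⟶ sp k Q),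
      ev z (x * y) = ev z x + ev z y := fun z x y =>
    (congrArg (fun w => ψ.hom.app (op (Over.mk z)) w) (GmExtLib.ptSec_mul x y)).trans (map_add _ _ _)
  let l : C →ₐ[k] C ⊗[k] Q := Algebra.TensorProduct.includeLeft
  let r : Q →ₐ[k] C ⊗[k] Q := Algebra.TensorProduct.includeRight
  let v : (C ⊗[k] Q)ˣ := uVal (ev (pt l) (pt r))
  have hv : ∀ {D : Type u} [CommRing D] [Algebra k D] (φ : C ⊗[k] Q →ₐ[k] D),
      ev (pt φ ≫ pt l) (pt φ ≫ pt r) = uSec D (Units.map φ.toRingHom.toMonoidHom v) := fun φ => by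
    rw [← hnat, ← map_uSec, uSec_uVal]
  -- multiplicativity
  let i₁ : Q →ₐ[k] Q ⊗[k] Q := Algebra.TensorProduct.includeLeft
  let i₂ : Q →ₐ[k] Q ⊗[k] Q := Algebra.TensorProduct.includeRight
  let xt : (Q →ₐ[k] Q ⊗[k] Q) → (C ⊗[k] Q →ₐ[k] C ⊗[k] (Q ⊗[k] Q)) := fun f =>
    Algebra.TensorProduct.map (AlgHom.id k C) f
  have hl : ∀ f : Q →ₐ[k] Q ⊗[k] Q, pt (K := C ⊗[k] (Q ⊗[k] Q)) (xt f) ≫ pt l = pt (K := C ⊗[k] (Q ⊗[k] Q)) (Algebra.TensorProduct.includeLeft : C →ₐ[k] C ⊗[k] (Q ⊗[k] Q)) := fun f => by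
    rw [← pt_comp]; exact congrArg pt (AlgHom.ext fun c => by simp [xt, l])
  have hr : ∀ f : Q →ₐ[k] Q ⊗[k] Q, pt (K := C ⊗[k] (Q ⊗[k] Q)) (xt f) ≫ pt r = pt (K := C ⊗[k] (Q ⊗[k] Q)) ((Algebra.TensorProduct.includeRight : Q ⊗[k] Q →ₐ[k] C ⊗[k] (Q ⊗[k] Q)).comp f) :=
    fun f => by rw [← pt_comp]; exact congrArg pt (AlgHom.ext fun c => by simp [xt, r])
  have hmul : Algebra.TensorProduct.map (AlgHom.id k C) (Bialgebra.comulAlgHom k Q) (v : C ⊗[k] Q) =
      Algebra.TensorProduct.map (AlgHom.id k C) i₁ (v : C ⊗[k] Q) *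
        Algebra.TensorProduct.map (AlgHom.id k C) i₂ (v : C ⊗[k] Q) := by
    have hm : pt (Bialgebra.comulAlgHom k Q) = pt i₁ * pt i₂ := by
      rw [Groth.Agent.DiagRep.pt_mul_conv, ← Groth.Agent.DiagRep.toConv_comul]
    have h : uSec (k := k) (C ⊗[k] (Q ⊗[k] Q)) (Units.map (xt (Bialgebra.comulAlgHom k Q)).toRingHom.toMonoidHom v) =
        uSec (C ⊗[k] (Q ⊗[k] Q)) (Units.map (xt i₁).toRingHom.toMonoidHom v * Units.map (xt i₂).toRingHom.toMonoidHom v) := by
      rw [uSec_mul, ← hv, ← hv, ← hv, hl, hl, hl, hr, hr, hr, pt_comp, pt_comp, pt_comp, hm, MonObj.comp_mul]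
      exact hadd _ _ _
    exact congrArg Units.val ((uSec_bijective (k := k) _).1 h)
  have hone : Algebra.TensorProduct.map (AlgHom.id k C) (Bialgebra.counitAlgHom k Q) (v : C ⊗[k] Q) = 1 := by
    let f := Algebra.TensorProduct.map (AlgHom.id k C) (Bialgebra.counitAlgHom k Q)
    have h1 : pt f ≫ pt r = 1 := by
      rw [← pt_comp, ← Groth.Agent.DiagRep.pt_one]
      refine congrArg pt (AlgHom.ext fun q => ?_)
      show (1 : C) ⊗ₜ[k] (Coalgebra.counit (R := k) q) = algebraMap k (C ⊗[k] k) (Coalgebra.counit (R := k) q)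
      rw [Algebra.TensorProduct.algebraMap_apply, ← mul_one (Coalgebra.counit (R := k) q), ← smul_eq_mul,
        ← TensorProduct.smul_tmul, Algebra.algebraMap_eq_smul_one, smul_eq_mul, mul_one]
    have h0 : ev (pt f ≫ pt l) (1 : sp k (C ⊗[k] k) ⟶ sp k Q) = 0 := map_zero (ψ.hom.app _).hom
    have h2 : uSec (k := k) _ (Units.map f.toRingHom.toMonoidHom v) = uSec _ 1 := by
      rw [← hv, h1, h0]
      have h3 := uSec_mul (k := k) (C := C ⊗[k] k) 1 1
      rw [mul_one] at h3
      exact (add_left_cancel (h3.symm.trans (add_zero _).symm)).symm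
    exact congrArg Units.val ((uSec_bijective (k := k) _).1 h2)
  obtain ⟨s, c, hspan, hloc⟩ := exists_monomial (v : C ⊗[k] Q) hmul hone
  refine ⟨↥s, fun i => Localization.Away (c i.1), fun i => inferInstance, fun i => inferInstance,
    fun i => pt (IsScalarTower.toAlgHom k C (Localization.Away (c i.1))), fun i => i.1, ?_, fun i => ?_⟩
  · refine AdeqModLib.ofArrows_mem _ ((Scheme.ofArrows_mem_precoverage_iff _).2 ⟨fun p => ?_, fun i => ?_⟩)
    · obtain ⟨m, hm, hmp⟩ : ∃ m ∈ s, c m ∉ (p : PrimeSpectrum C).asIdeal := by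
        by_contra hne
        push Not at hne
        refine (p : PrimeSpectrum C).isPrime.ne_top (top_le_iff.1 (hspan ▸ Ideal.span_le.2 ?_))
        rintro _ ⟨m, hm, rfl⟩
        exact hne m hm
      refine ⟨⟨m, hm⟩, ?_⟩
      have hp : (p : PrimeSpectrum C) ∈ Set.range (PrimeSpectrum.comap (algebraMap C (Localization.Away (c m)))) := by
        rw [PrimeSpectrum.localization_away_comap_range (Localization.Away (c m)) (c m)]
        exact hmp
      exact hp
    · haveI : IsOpenImmersion (Spec.map (CommRingCat.ofHom (algebraMap C (Localization.Away (c i.1))))) :=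
        AlgebraicGeometry.IsOpenImmersion.of_isLocalization (c i.1)
      change (@Flat ⊓ @LocallyOfFinitePresentation : MorphismProperty Scheme.{u})
        (Spec.map (CommRingCat.ofHom (algebraMap C (Localization.Away (c i.1)))))
      exact ⟨inferInstance, inferInstance⟩
  · let D := Localization.Away (c i.1)
    let φ : C →ₐ[k] D := IsScalarTower.toAlgHom k C D
    have hu : IsUnit (φ (c i.1)) := IsLocalization.Away.algebraMap_isUnit (c i.1)
    let φ' := Algebra.TensorProduct.map φ (AlgHom.id k Q)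
    refine Sheaf.hom_ext (NatTrans.ext (funext fun W => AddCommGrpCat.ext fun x => ?_))
    show ev (W.unop.hom ≫ pt φ) x.down.toMul = (chr k Λ i.1).hom.app (op W.unop.left) (GmExtLib.ptSec x.down.toMul)
    obtain ⟨w, hw1, hw2⟩ := exists_pair W.unop.hom x.down.toMul
    have e1 : W.unop.hom ≫ pt φ = w ≫ pt φ' ≫ pt l := by
      rw [← hw1, Category.assoc, ← pt_comp, ← pt_comp]
      congr 2
    have e2 : x.down.toMul = w ≫ pt φ' ≫ pt r := by
      rw [← hw2, ← pt_comp]
      congr 2
      exact AlgHom.ext fun q => (by simp [φ', r]; rfl)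
    have hφ' : Units.map φ'.toRingHom.toMonoidHom v =
        Units.map (Algebra.TensorProduct.includeRight : Q →ₐ[k] D ⊗[k] Q).toRingHom.toMonoidHom (mono₁ k Λ i.1) :=
      Units.ext (hloc i.1 i.2 D φ hu)
    rw [e1, e2, ← hnat, hv, hφ', ← map_uSec]
    rw [← e2, ← hw2]
    exact (GmExtLib.map_map _ _ _).trans rfl

/-- The split diagonalisable group of a commutative group is its double dual. -/
theorem bid_monoidAlgebra : Bid (GmVanishLib.shf (k := k) (MonoidAlgebra k Λ)) := by
  let Q := MonoidAlgebra k Λ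
  let F := GmVanishLib.shf (k := k) Q
  refine isIso_of_locally_bijective _ (Over.mk (𝟙 _))
    (fun Z => ⟨⊤, (Jf).top_mem Z, fun Z' h _ => ⟨Over.mkIdTerminal.from Z'⟩⟩) fun Z _ => ?_
  have hev : ∀ (m : Λ) (y : Z ⟶ sp k Q),
      HomSh.ev Jf (((Jf).overPullback AddCommGrpCat.{u + 1} Z).map (chr k Λ m)) (GmExtLib.ptSec y) =
        gSec Z (Units.map (fns y).toMonoidHom (mono₁ k Λ m)) := fun m y => chr_app m y
  refine ⟨fun s s' hss => ?_, fun Θ => ?_⟩
  · have hm : ∀ m, Units.map (fns s.down.toMul).toMonoidHom (mono₁ k Λ m) =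
        Units.map (fns s'.down.toMul).toMonoidHom (mono₁ k Λ m) := fun m => (gSec_bijective Z).1 (by
      rw [← hev m, ← hev m]
      have h := congrArg (fun f => f.hom.app (op (Over.mk (𝟙 Z)))
        (((Jf).overPullback AddCommGrpCat.{u + 1} Z).map (chr k Λ m))) hss
      change HomSh.ev Jf (((Jf).overPullback AddCommGrpCat.{u + 1} Z).map (chr k Λ m))
          ((GmVanishLib.shf (k := k) Q).obj.map (𝟙 Z).op s) =
        HomSh.ev Jf (((Jf).overPullback AddCommGrpCat.{u + 1} Z).map (chr k Λ m))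
          ((GmVanishLib.shf (k := k) Q).obj.map (𝟙 Z).op s') at h
      rw [op_id, CategoryTheory.Functor.map_id] at h
      exact h)
    refine ULift.ext _ _ (congrArg Additive.ofMul (fns_injective ?_))
    refine MonoidAlgebra.ringHom_ext (fun a => ?_) (fun m => congrArg Units.val (hm m))
    show fns s.down.toMul (algebraMap k Q a) = fns s'.down.toMul (algebraMap k Q a)
    rw [fns_algebraMap, fns_algebraMap]
  · let θ : Λ → (Gms).obj.obj (op Z) := fun m =>
      Θ.hom.app (op (Over.mk (𝟙 Z))) (((Jf).overPullback AddCommGrpCat.{u + 1} Z).map (chr k Λ m))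
    have hθ : ∀ m n, θ (m * n) = θ m + θ n := fun m n => by
      refine Eq.trans (congrArg (Θ.hom.app (op (Over.mk (𝟙 Z)))) ?_) (map_add (Θ.hom.app (op (Over.mk (𝟙 Z)))).hom _ _)
      rw [chr_mul, Functor.map_add]
    let g := Equiv.ofBijective _ (gSec_bijective Z)
    let v : Λ →* Γ(Z.left, ⊤)ˣ := MonoidHom.mk' (fun m => g.symm (θ m)) fun m n => g.injective (by
      show g _ = gSec Z (_ * _)
      rw [Equiv.apply_symm_apply, hθ, gSec_mul]
      exact congrArg₂ (· + ·) (g.apply_symm_apply _).symm (g.apply_symm_apply _).symm)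
    letI : Algebra k Γ(Z.left, ⊤) := (strMap Z).toAlgebra
    let h := MonoidAlgebra.lift k Γ(Z.left, ⊤) Λ ((Units.coeHom _).comp v)
    obtain ⟨y, hy⟩ := exists_point (Z := Z) h.toRingHom fun r => h.commutes r
    have hym : ∀ m, Units.map (fns y).toMonoidHom (mono₁ k Λ m) = v m := fun m => Units.ext (by
      show fns y (MonoidAlgebra.single m (1 : k)) = (v m : Γ(Z.left, ⊤))
      rw [hy]
      show h (MonoidAlgebra.single m (1 : k)) = _
      simp [h])
    refine ⟨GmExtLib.ptSec y, Sheaf.hom_ext (NatTrans.ext (funext fun W => AddCommGrpCat.ext fun φ => ?_))⟩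
    let ys : F.obj.obj (op Z) := GmExtLib.ptSec y
    show HomSh.ev Jf φ (F.obj.map W.unop.hom.op ys) = Θ.hom.app W φ
    obtain ⟨I, C, _, _, e, hcov⟩ := exists_sp_cover W.unop.left
    refine GaBidualLib.eq_of_cover Gms e hcov fun i => ?_
    let φ' : CategoryTheory.Sheaf.over F (sp k (C i)) ⟶ CategoryTheory.Sheaf.over Gms (sp k (C i)) :=
      ((Jf).overMapPullback AddCommGrpCat.{u + 1} (e i)).map φ
    obtain ⟨J', D, _, _, e', m, hcov', hloc⟩ := exists_local_chr φ'
    refine GaBidualLib.eq_of_cover Gms e' hcov' fun j => ?_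
    let a : sp k (D j) ⟶ Z := e' j ≫ e i ≫ W.unop.hom
    have hL : (Gms).obj.map (e' j).op ((Gms).obj.map (e i).op (HomSh.ev Jf φ (F.obj.map W.unop.hom.op ys))) =
        HomSh.ev Jf (((Jf).overPullback AddCommGrpCat.{u + 1} (sp k (D j))).map (chr k Λ (m j))) (F.obj.map a.op ys) := by
      rw [← hloc j]
      refine ((congrArg ((Gms).obj.map (e' j).op)
        (GmExtLib.ev_map (e i) (φ : F.over W.unop.left ⟶ CategoryTheory.Sheaf.over Gms W.unop.left) _).symm).trans
        (GmExtLib.ev_map (e' j) φ' _).symm).trans ?_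
      rw [GmExtLib.map_map, GmExtLib.map_map]
      simp only [a, Category.assoc]
      rfl
    have hR : (Gms).obj.map (e' j).op ((Gms).obj.map (e i).op (Θ.hom.app W φ)) = (Gms).obj.map a.op (θ (m j)) := by
      let A' : Over Z := Over.mk a
      refine Eq.trans (b := Θ.hom.app (op A') (((Jf).overPullback AddCommGrpCat.{u + 1} (sp k (D j))).map (chr k Λ (m j))))
        ?_ ?_
      · rw [GmExtLib.map_map]
        refine (NatTrans.naturality_apply Θ.hom
          (Over.homMk (e' j ≫ e i) (Category.assoc _ _ _) : A' ⟶ W.unop).op φ).symm.trans ?_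
        refine congrArg (Θ.hom.app (op A')) ?_
        rw [← hloc j]
        exact (GmExtLib.map_map (P := HomSh.homSh Jf F Gms) (e' j) (e i) φ).symm
      · exact NatTrans.naturality_apply Θ.hom (Over.homMk a (Category.comp_id a) : A' ⟶ Over.mk (𝟙 Z)).op
          (((Jf).overPullback AddCommGrpCat.{u + 1} Z).map (chr k Λ (m j)))
    rw [hL, hR]
    show (chr k Λ (m j)).hom.app (op (sp k (D j))) (F.obj.map a.op ys) = _
    rw [NatTrans.naturality_apply (chr k Λ (m j)).hom a.op]
    refine congrArg ((Gms).obj.map a.op) ?_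
    rw [chr_app, hym]
    exact g.apply_symm_apply _

end GmBidualLib
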